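import Groth.Agent.ExpSeq.Seq
import Groth.Agent.SupportLib.Unit
import Groth.Agent.S0459

/-!
# The ideal of a square-zero thickening as a module on the subscheme
-/

set_option autoImplicit false
set_option backward.isDefEq.respectTransparency false
set_option backward.isDefEq.respectTransparency.types false
set_option linter.style.haveILetI false
set_option maxHeartbeats 1000000

universe u

open CategoryTheory CategoryTheory.Limits AlgebraicGeometry TopologicalSpace Opposite
open Groth.Agent.QC (resO)

noncomputable section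

namespace Groth.Agent.ExpSeq

variable {X : Scheme.{u}} {I : X.IdealSheafData}

theorem isIso_unit_idealMod (hI : I * I = ⊥) :
    IsIso ((Scheme.Modules.pullbackPushforwardAdjunction I.subschemeι).unit.app (ClSub.idealMod I)) := by
  refine (SupportLib.isIso_unit_iff (i := I.subschemeι) _).2 fun U a ha s => ?_
  rw [Scheme.IdealSheafData.ker_subschemeι, ← I.ker_subschemeι_app, RingHom.mem_ker] at ha
  apply Groth.Agent.QC.app_injective_of_mono (ClSub.idealModι I) U.1
  rw [Scheme.Modules.Hom.app_smul, map_zero]
  exact ThickPic.mul_eq_zero_of_app hI ha ((Groth.Agent.QC.mem_range_idealModι I U.1 _).1 ⟨s, rfl⟩)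

theorem h_congr {T : TopCat.{u}} {F G : CohTop.Ab T} (φ : F ≅ G) (n : ℕ) :
    Nonempty (CohTop.H F n ≃+ CohTop.H G n) :=
  ⟨((Sheaf.functorH (Opens.grothendieckTopology T) n).mapIso φ).addCommGroupIsoToAddEquiv⟩

theorem toAb_pushforward {Y Z : Scheme.{u}} (f : Z ⟶ Y) (M : Z.Modules) :
    Nonempty (Coh.toAb ((Scheme.Modules.pushforward f).obj M) ≅ (CohTop.push f.base).obj (Coh.toAb M)) := ⟨Iso.refl _⟩

/-- Cohomology of the ideal of a square-zero thickening on the thickening and on the subscheme. -/
theorem nonempty_hh_idealMod (hI : I * I = ⊥) (n : ℕ) :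
    Nonempty (Coh.HH I.subscheme ((Scheme.Modules.pullback I.subschemeι).obj (ClSub.idealMod I)) n ≃+
      Coh.HH X (ClSub.idealMod I) n) := by
  haveI := isIso_unit_idealMod hI
  let M := (Scheme.Modules.pullback I.subschemeι).obj (ClSub.idealMod I)
  obtain ⟨e⟩ := S0459.result (X := I.subscheme.toTopCat) (Y := X.toTopCat) I.subschemeι.base
    I.subschemeι.isClosedEmbedding (Coh.toAb M) n
  obtain ⟨a⟩ := toAb_pushforward I.subschemeι M
  obtain ⟨e'⟩ := h_congr (T := X.toTopCat) (a.symm ≪≫ (SheafOfModules.toSheaf X.ringCatSheaf).mapIso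
    (asIso ((Scheme.Modules.pullbackPushforwardAdjunction I.subschemeι).unit.app (ClSub.idealMod I))).symm) n
  exact ⟨e.trans e'⟩

end Groth.Agent.ExpSeq
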