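import Groth.Agent.ZarPicLib.Basic
import Groth.Agent.CurveFF.ShortExact
import Groth.Agent.S0904

/-!
# Connecting maps in degree zero and direct images along homeomorphisms
-/

set_option autoImplicit false
set_option backward.isDefEq.respectTransparency false
set_option backward.isDefEq.respectTransparency.types false
set_option linter.style.haveILetI false

universe u

open CategoryTheory CategoryTheory.Limits CategoryTheory.Abelian TopologicalSpace Opposite
open Groth.Agent.SiteCoh (embedSeq embedSeq_shortExact)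
open Groth.Agent.ZarPicLib (sec rr ZZ secZ secZ_comp rr_rr app_rr)

noncomputable section

namespace Groth.Agent.ExpSeq

variable {X Y : TopCat.{u}}

/-- degree zero cohomology is the group of global sections -/
def h0 (F : CohTop.Ab X) : CohTop.H F 0 ≃+ sec F ⊤ := Ext.addEquiv₀.trans (secZ F)

theorem h0_comp {F F' : CohTop.Ab X} (φ : F ⟶ F') (x : CohTop.H F 0) :
    h0 F' (Ext.comp x (Ext.mk₀ φ) (add_zero 0)) = φ.hom.app (op ⊤) (h0 F x) := by
  obtain ⟨a, rfl⟩ := (Ext.mk₀_bijective _ _).2 x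
  rw [Ext.mk₀_comp_mk₀]
  simp only [h0, AddEquiv.trans_apply]
  rw [show Ext.addEquiv₀ (Ext.mk₀ (a ≫ φ)) = a ≫ φ from Ext.addEquiv₀.apply_symm_apply _,
    show Ext.addEquiv₀ (Ext.mk₀ a) = a from Ext.addEquiv₀.apply_symm_apply _]
  exact secZ_comp a φ

section dl

variable {S : ShortComplex (CohTop.Ab X)} (hS : S.ShortExact)

/-- The connecting map in degree zero. -/
def dl : sec S.X₃ ⊤ →+ CohTop.H S.X₁ 1 :=
  AddMonoidHom.mk' (fun q => (Ext.mk₀ ((secZ _).symm q)).comp hS.extClass (zero_add 1))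
    fun q q' => by rw [map_add, Ext.mk₀_add, Ext.add_comp]

theorem δ_eq_dl (G : CohTop.Ab X) : ZarPicLib.δ G = dl (embedSeq_shortExact G) := rfl

include hS

theorem dl_eq_zero_iff (q : sec S.X₃ ⊤) : dl hS q = 0 ↔ ∃ y, S.g.hom.app (op ⊤) y = q := by
  constructor
  · intro h
    obtain ⟨d, hd⟩ := Ext.covariant_sequence_exact₃ _ hS _ (zero_add 1) h
    obtain ⟨ψ, rfl⟩ := (Ext.mk₀_bijective _ _).2 d
    rw [Ext.mk₀_comp_mk₀] at hd
    refine ⟨secZ _ ψ, ?_⟩
    rw [← secZ_comp, (Ext.mk₀_bijective _ _).1 hd, AddEquiv.apply_symm_apply]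
  · rintro ⟨y, rfl⟩
    have : (secZ S.X₃).symm (S.g.hom.app (op ⊤) y) = (secZ _).symm y ≫ S.g := by
      apply (secZ S.X₃).injective
      rw [AddEquiv.apply_symm_apply, secZ_comp, AddEquiv.apply_symm_apply]
    change (Ext.mk₀ _).comp _ (zero_add 1) = (0 : Ext _ _ 1)
    rw [this, ← Ext.mk₀_comp_mk₀_assoc, hS.comp_extClass, Ext.comp_zero]

theorem dl_surjective [Injective S.X₂] : Function.Surjective (dl hS) := fun x => by
  obtain ⟨d, hd⟩ := Ext.covariant_sequence_exact₁ _ hS x (Ext.eq_zero_of_injective _) (zero_add 1)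
  obtain ⟨φ, rfl⟩ := (Ext.mk₀_bijective _ _).2 d
  refine ⟨secZ _ φ, ?_⟩
  change (Ext.mk₀ _).comp _ (zero_add 1) = x
  rw [AddEquiv.symm_apply_apply]
  exact hd

theorem dl_naturality {T : ShortComplex (CohTop.Ab X)} (hT : T.ShortExact) (φ : S ⟶ T) (q : sec S.X₃ ⊤) :
    Ext.comp (dl hS q) (Ext.mk₀ φ.τ₁) (add_zero 1) = dl hT (φ.τ₃.hom.app (op ⊤) q) := by
  change Ext.comp (Ext.comp (Ext.mk₀ _) _ (zero_add 1)) _ (add_zero 1) = Ext.comp (Ext.mk₀ _) _ (zero_add 1)
  rw [Ext.comp_assoc_of_third_deg_zero, hS.extClass_naturality hT φ, Ext.mk₀_comp_mk₀_assoc]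
  congr 2
  apply (secZ T.X₃).injective
  rw [AddEquiv.apply_symm_apply, secZ_comp, AddEquiv.apply_symm_apply]

end dl

/-- two quotients of a group by the same subgroup -/
theorem exists_addEquiv_of_ker {A B C : Type*} [AddCommGroup A] [AddCommGroup B] [AddCommGroup C]
    (p : A →+ B) (q : A →+ C) (hp : Function.Surjective p) (hq : Function.Surjective q)
    (h : ∀ a, p a = 0 ↔ q a = 0) : ∃ e : B ≃+ C, ∀ a, e (p a) = q a := by
  obtain ⟨s, hs⟩ := hp.hasRightInverse
  have key : ∀ a, q (s (p a)) = q a := fun a => by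
    rw [← sub_eq_zero, ← map_sub, ← h, map_sub, hs, sub_self]
  refine ⟨AddEquiv.ofBijective (AddMonoidHom.mk' (fun b => q (s b)) fun b b' => ?_) ⟨?_, fun c => ?_⟩, key⟩
  · rw [← map_add, ← key (s b + s b'), map_add p, hs, hs]
  · rw [injective_iff_map_eq_zero]
    intro b hb
    rw [← hs b]
    exact (h _).2 hb
  · obtain ⟨a, rfl⟩ := hq c
    exact ⟨p a, key a⟩

variable {f : X ⟶ Y}

theorem exists_preimage_open (hf : IsHomeomorph f) (O' : Opens X) : ∃ O : Opens Y, (Opens.map f).obj O = O' :=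
  ⟨⟨f '' O', hf.isOpenMap _ O'.2⟩, Opens.ext (Set.preimage_image_eq _ hf.injective)⟩

theorem le_of_preimage_le (hf : IsHomeomorph f) {O U : Opens Y}
    (h : (Opens.map f).obj O ≤ (Opens.map f).obj U) : O ≤ U := fun y hy => by
  obtain ⟨x, rfl⟩ := hf.surjective y
  exact h hy

/-- Direct image along a homeomorphism is exact. -/
theorem push_shortExact (hf : IsHomeomorph f) {S : ShortComplex (CohTop.Ab X)} (hS : S.ShortExact) :
    (S.map (CohTop.push f)).ShortExact := by
  refine CurveFF.shortExact_of_sections _ (fun U => ?_) (fun U s hs => ?_) (fun U s y hy => ?_)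
  · exact ZarPicLib.f_injective hS ((Opens.map f).obj U)
  · exact ZarPicLib.exists_kernel hS (U := (Opens.map f).obj U) s hs
  · obtain ⟨x, rfl⟩ := hf.surjective y
    obtain ⟨V', hV', i, hxV, hi⟩ := ZarPicLib.exists_lift hS (U := (Opens.map f).obj U) s (x := x) hy
    obtain ⟨V, rfl⟩ := exists_preimage_open hf V'
    exact ⟨V, le_of_preimage_le hf hV', hxV, i, hi⟩

/-- the connecting map of the pushed injective embedding -/
def dlPush (hf : IsHomeomorph f) (G : CohTop.Ab X) :
    sec (embedSeq G).X₃ ⊤ →+ CohTop.H ((CohTop.push f).obj G) 1 :=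
  dl (push_shortExact hf (embedSeq_shortExact G))

theorem dlPush_surjective (hf : IsHomeomorph f) (G : CohTop.Ab X) : Function.Surjective (dlPush hf G) := by
  haveI : Injective ((embedSeq G).map (CohTop.push f)).X₂ := S0904.result f (embedSeq G).X₂
  exact dl_surjective (push_shortExact hf (embedSeq_shortExact G))

theorem dlPush_eq_zero_iff (hf : IsHomeomorph f) (G : CohTop.Ab X) (q : sec (embedSeq G).X₃ ⊤) :
    dlPush hf G q = 0 ↔ ∃ y, (embedSeq G).g.hom.app (op ⊤) y = q :=
  dl_eq_zero_iff (push_shortExact hf (embedSeq_shortExact G)) q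

/-- `H¹` of a direct image along a homeomorphism. -/
theorem nonempty_pushH1 (hf : IsHomeomorph f) (G : CohTop.Ab X) :
    Nonempty (CohTop.H G 1 ≃+ CohTop.H ((CohTop.push f).obj G) 1) := by
  obtain ⟨e, -⟩ := exists_addEquiv_of_ker (ZarPicLib.δ G) (dlPush hf G) (ZarPicLib.δ_surjective G)
    (dlPush_surjective hf G) fun q => (ZarPicLib.δ_eq_zero_iff G q).trans (dlPush_eq_zero_iff hf G q).symm
  exact ⟨e⟩

end Groth.Agent.ExpSeq
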