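import Groth.Agent.ExpSeq.DeformArt
import Groth.Agent.ExpSeq.Square
import Groth.Agent.ThickPic.PowLift

/-!
# Kernels of restriction of functions and of units along square-zero thickenings
-/

set_option autoImplicit false
set_option backward.isDefEq.respectTransparency false
set_option backward.isDefEq.respectTransparency.types false
set_option linter.style.haveILetI false
set_option maxHeartbeats 1000000
set_option synthInstance.maxHeartbeats 200000

universe u

open CategoryTheory CategoryTheory.Limits CategoryTheory.Abelian AlgebraicGeometry TopologicalSpace Opposite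
open Groth.Agent.ZarPicLib (sec rr)
open Groth.Agent.QC (resO)

noncomputable section

namespace Groth.Agent.ExpSeq.SquareKer

open Deform (res0 GG)

section kernels

/-- the sequence of kernels of a composition whose first map is an epimorphism -/
theorem shortExact_kernels {C : Type*} [Category C] [Abelian C] {X Y Z : C} (a : X ⟶ Y) (b : Y ⟶ Z) [Epi a] :
    ∃ (v : kernel a ⟶ kernel (a ≫ b)) (w : kernel (a ≫ b) ⟶ kernel b) (h : v ≫ w = 0),
      (ShortComplex.mk v w h).ShortExact := by
  let v : kernel a ⟶ kernel (a ≫ b) := kernel.lift _ (kernel.ι a) (by rw [kernel.condition_assoc, zero_comp])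
  let w : kernel (a ≫ b) ⟶ kernel b := kernel.lift _ (kernel.ι (a ≫ b) ≫ a) (by rw [Category.assoc, kernel.condition])
  have hv : v ≫ kernel.ι (a ≫ b) = kernel.ι a := kernel.lift_ι _ _ _
  have hw : w ≫ kernel.ι b = kernel.ι (a ≫ b) ≫ a := kernel.lift_ι _ _ _
  have h : v ≫ w = 0 := by
    rw [← cancel_mono (kernel.ι b), Category.assoc, hw, ← Category.assoc, hv, kernel.condition, zero_comp]
  refine ⟨v, w, h, ?_⟩
  haveI : Mono v := mono_of_mono_fac hv
  haveI : Epi w := by
    rw [epi_iff_surjective_up_to_refinements]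
    intro T z
    obtain ⟨T', π, hπ, s, hs⟩ := surjective_up_to_refinements_of_epi a (z ≫ kernel.ι b)
    refine ⟨T', π, hπ, kernel.lift _ s (by
      rw [← Category.assoc, ← hs, Category.assoc, Category.assoc, kernel.condition, comp_zero, comp_zero]), ?_⟩
    rw [← cancel_mono (kernel.ι b), Category.assoc, Category.assoc, hw, kernel.lift_ι_assoc, hs]
  refine ShortComplex.ShortExact.mk (ShortComplex.exact_of_f_is_kernel _ (KernelFork.IsLimit.ofι' _ _ fun {T} k hk => ?_))
  have hk' : (k ≫ kernel.ι (a ≫ b)) ≫ a = 0 := by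
    rw [Category.assoc, ← hw, ← Category.assoc, show k ≫ w = 0 from hk, zero_comp]
  refine ⟨kernel.lift a _ hk', ?_⟩
  change kernel.lift a _ hk' ≫ v = k
  rw [← cancel_mono (kernel.ι (a ≫ b)), Category.assoc, hv, kernel.lift_ι]

/-- cohomology of the last term of a short exact sequence -/
theorem subsingleton_X3 {T : TopCat.{u}} {S : ShortComplex (CohTop.Ab T)} (hS : S.ShortExact) (q : ℕ)
    (h2 : Subsingleton (CohTop.H S.X₂ q)) (h1 : Subsingleton (CohTop.H S.X₁ (q + 1))) :
    Subsingleton (CohTop.H S.X₃ q) :=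
  subsingleton_of_forall_eq 0 fun x => by
    obtain ⟨y, rfl⟩ := Ext.covariant_sequence_exact₃ _ hS x (rfl : q + 1 = q + 1) (h1.elim _ _)
    rw [h2.elim y 0, Ext.zero_comp]

end kernels

theorem res0_comp {Z R Y : Scheme.{u}} (t : Z ⟶ R) (i : R ⟶ Y) :
    res0 (t ≫ i) = res0 i ≫ (CohTop.push i.base).map (res0 t) := by
  apply Sheaf.hom_ext
  ext U s
  rfl

theorem isIso_res0 {R Y : Scheme.{u}} (i : R ⟶ Y) [IsIso i] : IsIso (res0 i) := by
  haveI : ∀ U, IsIso ((res0 i).hom.app U) := fun U => by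
    rw [ConcreteCategory.isIso_iff_bijective]
    exact ConcreteCategory.bijective_of_isIso (i.app U.unop)
  haveI : IsIso (res0 i).hom := NatIso.isIso_of_isIso_app _
  haveI : IsIso ((sheafToPresheaf _ _).map (res0 i)) := inferInstanceAs (IsIso (res0 i).hom)
  exact isIso_of_reflects_iso _ (sheafToPresheaf _ _)

theorem epi_res0 {R Y : Scheme.{u}} (g : R ⟶ Y) [IsClosedImmersion g] : Epi (res0 g) := by
  refine (TopCat.Sheaf.isLocallySurjective_iff_epi (X := Y.toTopCat) (res0 g)).1 ?_
  rw [TopCat.Presheaf.isLocallySurjective_iff]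
  intro U s x hx
  obtain ⟨W, hW, hxW, hWU⟩ := exists_isAffineOpen_mem_and_subset (X := Y) (x := x) (U := U) hx
  obtain ⟨t, ht⟩ := g.app_surjective W hW (resO R (g.preimage_mono hWU) s)
  exact ⟨W, hWU, ⟨t, ht⟩, hxW⟩

theorem nonempty_kernel_comp {R S Y : Scheme.{u}} (e : R ⟶ S) [IsIso e] (s : S ⟶ Y) :
    Nonempty (kernel (res0 s) ≅ kernel (res0 (e ≫ s))) := by
  haveI := isIso_res0 e
  exact ⟨(kernelCompMono (res0 s) ((CohTop.push s.base).map (res0 e))).symm ≪≫ kernelIsoOfEq (res0_comp e s).symm⟩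

theorem nonempty_toAb_idealMod {R Y : Scheme.{u}} (g : R ⟶ Y) [IsClosedImmersion g] :
    Nonempty (Coh.toAb (ClSub.idealMod g.ker) ≅ kernel (res0 g)) := by
  haveI : PreservesFiniteLimits (SheafOfModules.toSheaf.{u} Y.ringCatSheaf) := inferInstance
  obtain ⟨e⟩ := nonempty_kernel_comp g.toImage g.imageι
  have key : ∀ g' : R ⟶ Y, g' = g → Nonempty (kernel (res0 g') ≅ kernel (res0 g)) := fun g' h => by
    subst h; exact ⟨Iso.refl _⟩
  obtain ⟨e'⟩ := key _ g.toImage_imageι
  exact ⟨PreservesKernel.iso (SheafOfModules.toSheaf.{u} Y.ringCatSheaf) (ClSub.toSubscheme g.ker) ≪≫ e ≪≫ e'⟩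

variable {Z Y : Scheme.{u}} (i : Z ⟶ Y)

/-- a square-zero closed immersion as a thickening -/
def thick [IsClosedImmersion i] (hi : IsHomeomorph i.base)
    (hsq : ∀ (U : Y.Opens), IsAffineOpen U → ∀ a b : Γ(Y, U), i.app U a = 0 → i.app U b = 0 → a * b = 0) :
    Thick i (kernel (res0 i)) where
  homeo := hi
  j U := ((kernel.ι (res0 i)).hom.app (op U)).hom
  inj U := by
    haveI : Mono ((sheafToPresheaf _ _).map (kernel.ι (res0 i))) := inferInstance
    exact (AddCommGrpCat.mono_iff_injective _).1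
      (inferInstanceAs (Mono (((sheafToPresheaf _ _).map (kernel.ι (res0 i))).app (op U))))
  nat {U V} h z := ConcreteCategory.congr_hom ((kernel.ι (res0 i)).hom.naturality (homOfLE h).op) z
  ker U t := by
    haveI := epi_res0 i
    have hS : (ShortComplex.mk (kernel.ι (res0 i)) (res0 i) (kernel.condition _)).ShortExact :=
      { exact := ShortComplex.exact_of_f_is_kernel _ (kernelIsKernel _) }
    exact ⟨fun h => ZarPicLib.exists_kernel hS t h, fun ⟨z, hz⟩ => hz ▸
      ConcreteCategory.congr_hom (NatTrans.congr_app (congrArg (fun e => e.hom) (kernel.condition (res0 i))) (op U)) z⟩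
  sq {U a b} ha hb := by
    refine TopCat.Presheaf.IsSheaf.section_ext Y.sheaf.2 fun x hx => ?_
    obtain ⟨W, hW, hxW, hWU⟩ := exists_isAffineOpen_mem_and_subset (X := Y) (x := x) (U := U) hx
    refine ⟨W, hWU, hxW, ?_⟩
    change resO Y hWU (a * b) = resO Y hWU 0
    rw [map_mul, map_zero]
    exact hsq W hW _ _ (by rw [← Deform.resO_app i hWU, ha, map_zero]) (by rw [← Deform.resO_app i hWU, hb, map_zero])
  lift U r x hx := by
    obtain ⟨W, hW, hxW, hWU⟩ := exists_isAffineOpen_mem_and_subset (X := Y) (x := x) (U := U) hx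
    obtain ⟨s, hs⟩ := i.app_surjective W hW (resO Z (i.preimage_mono hWU) r)
    exact ⟨W, hWU, s, hxW, hs⟩

/-- cohomology of the units kernel from that of the functions kernel -/
theorem subsingleton_units [IsClosedImmersion i] (hi : IsHomeomorph i.base)
    (hsq : ∀ (U : Y.Opens), IsAffineOpen U → ∀ a b : Γ(Y, U), i.app U a = 0 → i.app U b = 0 → a * b = 0)
    (q : ℕ) (h : Subsingleton (CohTop.H (kernel (res0 i)) q)) :
    Subsingleton (CohTop.H (kernel (UnitsSh.comap i)) q) := by
  let T := thick i hi hsq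
  obtain ⟨e⟩ := h_congr ((T.shortExact.fIsKernel).conePointUniqueUpToIso (kernelIsKernel (UnitsSh.comap i))) q
  exact e.toEquiv.subsingleton_congr.1 h

/-- cohomology of the functions kernel of a thickening from the ambient ideals -/
theorem subsingleton_step {X : Scheme.{u}} (g : Y ⟶ X) [IsClosedImmersion g] (g' : Z ⟶ X) [IsClosedImmersion g']
    (w : i ≫ g = g') (q : ℕ)
    (h0 : Subsingleton (Coh.HH X (ClSub.idealMod g'.ker) q))
    (h1 : Subsingleton (Coh.HH X (ClSub.idealMod g.ker) (q + 1))) :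
    Subsingleton (CohTop.H (kernel (res0 i)) q) := by
  subst w
  haveI := epi_res0 g
  haveI : PreservesFiniteLimits (CohTop.push g.base) := by
    haveI := (TopCat.Sheaf.pullbackPushforwardAdjunction AddCommGrpCat.{u} g.base).rightAdjoint_preservesLimits
    infer_instance
  obtain ⟨v, w', hvw, hS⟩ := shortExact_kernels (res0 g) ((CohTop.push g.base).map (res0 i))
  obtain ⟨eY⟩ := nonempty_toAb_idealMod g
  obtain ⟨eY'⟩ := h_congr eY (q + 1)
  obtain ⟨eZ⟩ := nonempty_toAb_idealMod (i ≫ g)
  obtain ⟨eZ'⟩ := h_congr (eZ ≪≫ kernelIsoOfEq (res0_comp i g)) q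
  have h3 := subsingleton_X3 hS q (eZ'.toEquiv.subsingleton_congr.1 h0) (eY'.toEquiv.subsingleton_congr.1 h1)
  obtain ⟨eP⟩ := h_congr (PreservesKernel.iso (CohTop.push g.base) (res0 i)) q
  obtain ⟨e⟩ := S0459.result (X := Y.toTopCat) (Y := X.toTopCat) g.base g.isClosedEmbedding (kernel (res0 i)) q
  exact e.toEquiv.subsingleton_congr.2 (eP.toEquiv.subsingleton_congr.2 h3)

section thickenings

variable {A : Type u} [CommRing A] {X : Scheme.{u}} (f : X ⟶ Spec (CommRingCat.of A)) (I : Ideal A)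

/-- functions killed one level down multiply to zero -/
theorem mul_eq_zero_trans (n : ℕ) (U : (CohB1.thick f I (n + 1)).Opens) (hU : IsAffineOpen U)
    (a b : Γ(CohB1.thick f I (n + 1), U)) (ha : (ThickPic.trans f I (Nat.le_succ n)).app U a = 0)
    (hb : (ThickPic.trans f I (Nat.le_succ n)).app U b = 0) : a * b = 0 := by
  letI : (CohB1.thick f I (n + 1)).Over (Spec (CommRingCat.of (A ⧸ I ^ (n + 2)))) := ⟨CohB1.thickToBase f I (n + 1)⟩
  have hk := W7Alg.ker_app_baseChange (f' := CohB1.thickToBase f I n)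
    (Ideal.Quotient.factor (Ideal.pow_le_pow_right (Nat.succ_le_succ (Nat.le_succ n)))) (Ideal.Quotient.factor_surjective _)
    (ThickPic.isPullback_trans f I (Nat.le_succ n)) ⟨U, hU⟩
  have hma : a ∈ RingHom.ker ((ThickPic.trans f I (Nat.le_succ n)).app U).hom := ha
  have hmb : b ∈ RingHom.ker ((ThickPic.trans f I (Nat.le_succ n)).app U).hom := hb
  rw [hk, Ideal.Quotient.factor_ker] at hma hmb
  have h2 := Ideal.mul_mem_mul hma hmb
  rw [← Ideal.map_mul, ← Ideal.map_mul, ← pow_add] at h2
  have h0 : (I ^ (n.succ + n.succ)).map (Ideal.Quotient.mk (I ^ (n + 2))) ≤ ⊥ :=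
    le_of_le_of_eq (Ideal.map_mono (Ideal.pow_le_pow_right (by omega))) (Ideal.map_quotient_self _)
  have h3 := Ideal.map_mono (f := W7Cech.secRing (A ⧸ I ^ (n + 2)) U) h0 h2
  rwa [Ideal.map_bot, Ideal.mem_bot] at h3

attribute [local instance] W7Cube.law

/-- restriction one level down on Picard groups is bijective -/
theorem bijective_pull_trans (n : ℕ)
    (h : ∀ q, q = 1 ∨ q = 2 → Subsingleton (Coh.HH X (ClSub.idealMod (CohB1.thickι f I n).ker) q) ∧
      Subsingleton (Coh.HH X (ClSub.idealMod (CohB1.thickι f I (n + 1)).ker) (q + 1))) :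
    Function.Bijective (W7Cube.pull (ThickPic.trans f I (Nat.le_succ n))) := by
  let i := ThickPic.trans f I (Nat.le_succ n)
  have hi := ThickPic.isHomeomorph_trans f I (Nat.le_succ n)
  have hnil : ∀ (U : (CohB1.thick f I (n + 1)).Opens), IsAffineOpen U → ∀ z : Γ(CohB1.thick f I (n + 1), U),
      i.app U z = 0 → IsNilpotent z := fun U hU z hz => ⟨2, by rw [pow_two]; exact mul_eq_zero_trans f I n U hU z z hz hz⟩
  have hK : ∀ q, q = 1 ∨ q = 2 → Subsingleton (CohTop.H (kernel (UnitsSh.comap i)) q) := fun q hq =>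
    subsingleton_units i hi (mul_eq_zero_trans f I n) q
      (subsingleton_step i (CohB1.thickι f I (n + 1)) (CohB1.thickι f I n) (ThickPic.trans_ι f I _) q (h q hq).1 (h q hq).2)
  exact ⟨Deform.pullHom_injective i (W7Cube.pullMul i) hi hnil (hK 1 (Or.inl rfl)),
    ThickPic.pullHom_surjective i hi hnil (W7Cube.pullMul i) (hK 2 (Or.inr rfl))⟩

end thickenings

end Groth.Agent.ExpSeq.SquareKer
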