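import Groth.Agent.ExpSeq.Deform
import Groth.Agent.W7Adic.Sys
import Groth.Agent.W7Cube.Pic

/-!
# Line bundles along a flat adic tower
-/

set_option autoImplicit false
set_option backward.isDefEq.respectTransparency false
set_option backward.isDefEq.respectTransparency.types false
set_option linter.style.haveILetI false
set_option maxHeartbeats 1000000

universe u

open CategoryTheory CategoryTheory.Limits CategoryTheory.Abelian AlgebraicGeometry TopologicalSpace Opposite
open PicGrp

noncomputable section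

namespace Groth.Agent.ExpSeq.Deform

/-- classes coming from a vanishing group vanish -/
theorem comp_eq_zero {T : TopCat.{u}} {F G : CohTop.Ab T} (φ : F ⟶ G) (h : Subsingleton (CohTop.H F 1))
    (y : CohTop.H F 1) {x : CohTop.H G 1} (hy : Ext.comp y (Ext.mk₀ φ) (add_zero 1) = x) : x = 0 := by
  rw [← hy, h.elim y 0, Ext.zero_comp]

theorem eq_one_of {P : Type (u + 1)} {H : Type u} [CommGroup P] [AddCommGroup H] (Ψ : Additive P ≃+ H) {c : P}
    (h : Ψ (Additive.ofMul c) = 0) : c = 1 := Additive.ofMul.injective (Ψ.injective (h.trans (map_zero Ψ).symm))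

variable {Y R : Scheme.{u}} (j : R ⟶ Y) [IsClosedImmersion j]

/-- restriction is injective when `H¹` of the kernel vanishes -/
theorem pullHom_injective [Law Y] [Law R] (hm : PullMul j) (hj : IsHomeomorph j.base)
    (hnil : ∀ (U : Y.Opens), IsAffineOpen U → ∀ z : Γ(Y, U), j.app U z = 0 → IsNilpotent z)
    (h1 : Subsingleton (CohTop.H (kernel (UnitsSh.comap j)) 1)) :
    Function.Injective (pullHom j hm) := by
  refine (injective_iff_map_eq_one _).2 fun c hc => ?_
  obtain ⟨ΨR, hΨ⟩ := ThickPic.exists_picEquiv_compat j hj hm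
  obtain ⟨y, hy⟩ := Ext.covariant_sequence_exact₂ _ (ThickPic.kerSeq_shortExact j hj hnil)
    (ThickPic.picH1 Y (Additive.ofMul c)) ((hΨ c).trans (by rw [hc, ofMul_one, map_zero]))
  exact eq_one_of (ThickPic.picH1 Y) (comp_eq_zero (T := Y.toTopCat) (ThickPic.kerSeq j).f h1 y hy)

/-- a minimal system of generators is independent modulo the maximal ideal -/
theorem exists_span_indep {A : Type u} [CommRing A] [IsLocalRing A] (I : Ideal A) (hI : I.FG) :
    ∃ (r : ℕ) (a : Fin r → A), Ideal.span (Set.range a) = I ∧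
      ∀ c : Fin r → A, ∑ s, c s * a s = 0 → ∀ s, c s ∈ IsLocalRing.maximalIdeal A := by
  classical
  have hex : ∃ r, ∃ a : Fin r → A, Ideal.span (Set.range a) = I := Submodule.fg_iff_exists_fin_generating_family.1 hI
  obtain ⟨a, ha⟩ := Nat.find_spec hex
  refine ⟨_, a, ha, fun c hc s => ?_⟩
  by_contra hs
  obtain ⟨k, hk⟩ : ∃ k, Nat.find hex = k + 1 := ⟨Nat.find hex - 1, by have := s.pos; omega⟩
  refine Nat.find_min hex (show k < Nat.find hex by omega) ?_
  obtain ⟨v, hv⟩ : IsUnit (c s) := by simpa using hs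
  let e : Fin (k + 1) ≃ Fin (Nat.find hex) := finCongr hk.symm
  refine ⟨fun l => a (e ((e.symm s).succAbove l)), le_antisymm ?_ ?_⟩
  · rw [Ideal.span_le]
    rintro _ ⟨l, rfl⟩
    exact ha.le (Ideal.subset_span ⟨_, rfl⟩)
  · refine ha.ge.trans ?_
    rw [Ideal.span_le]
    rintro _ ⟨t, rfl⟩
    by_cases hts : t = s
    · rw [hts]
      rw [← Finset.add_sum_erase _ _ (Finset.mem_univ s)] at hc
      have h : a s = ((v⁻¹ : Aˣ) : A) * -(∑ t ∈ Finset.univ.erase s, c t * a t) := by
        rw [← eq_neg_of_add_eq_zero_left hc, ← mul_assoc, ← hv, Units.inv_mul, one_mul]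
      rw [h]
      refine Ideal.mul_mem_left _ _ (neg_mem (Ideal.sum_mem _ fun t ht => Ideal.mul_mem_left _ _ ?_))
      obtain ⟨l, hl⟩ := Fin.exists_succAbove_eq (x := e.symm t) (y := e.symm s) (by simpa using Finset.ne_of_mem_erase ht)
      exact Ideal.subset_span ⟨l, by change a (e _) = a t; rw [hl, Equiv.apply_symm_apply]⟩
    · obtain ⟨l, hl⟩ := Fin.exists_succAbove_eq (x := e.symm t) (y := e.symm s) (by simpa using hts)
      exact Ideal.subset_span ⟨l, by change a (e _) = a t; rw [hl, Equiv.apply_symm_apply]⟩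

variable {A : Type u} [CommRing A] [IsLocalRing A] [IsNoetherianRing A]
  (T : W7Adic.Tower (IsLocalRing.maximalIdeal A))

omit [IsNoetherianRing A] in
/-- the closed fibre in a level, over the base -/
theorem isPullback_j : ∀ n, IsPullback (W7Adic.j T n) (T.p 0) (T.p n)
    (Spec.map (CommRingCat.ofHom (Ideal.Quotient.factor
      (Ideal.pow_le_pow_right (I := IsLocalRing.maximalIdeal A) (show 1 ≤ n + 1 by omega)))))
  | 0 => by
    have h : Ideal.Quotient.factor (Ideal.pow_le_pow_right (I := IsLocalRing.maximalIdeal A) (show 1 ≤ 0 + 1 by omega)) =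
        RingHom.id _ := Ideal.Quotient.ringHom_ext (RingHom.ext fun x => rfl)
    rw [h, CommRingCat.ofHom_id, Spec.map_id]
    exact IsPullback.of_id_fst
  | n + 1 => by
    have h := (isPullback_j n).paste_horiz (T.cart n)
    rw [CohB1.specQuotTrans, ← Spec.map_comp, ← CommRingCat.ofHom_comp, Ideal.Quotient.factor_comp] at h
    exact h

omit [IsNoetherianRing A] in
theorem isHomeomorph_i (n : ℕ) : IsHomeomorph (T.i n).base := by
  haveI : Surjective (T.i n) := MorphismProperty.of_isPullback (P := @Surjective) (T.cart n).flip inferInstance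
  exact isHomeomorph_iff_isEmbedding_surjective.2
    ⟨(T.i n).isClosedEmbedding.isEmbedding, (T.i n).surjective⟩

variable (n : ℕ)

/-- each transition is a small deformation -/
theorem exists_small (hflat : Flat (T.p (n + 1))) :
    letI : (T.X (n + 1)).Over (Spec (CommRingCat.of (A ⧸ IsLocalRing.maximalIdeal A ^ (n + 2)))) := ⟨T.p (n + 1)⟩
    ∃ (r : ℕ) (a : Fin r → A ⧸ IsLocalRing.maximalIdeal A ^ (n + 2)),
      Small (T.i n) (W7Adic.j T (n + 1)) ((IsLocalRing.maximalIdeal A ^ (n + 1)).map (Ideal.Quotient.mk _))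
        ((IsLocalRing.maximalIdeal A).map (Ideal.Quotient.mk _)) a := by
  letI : (T.X (n + 1)).Over (Spec (CommRingCat.of (A ⧸ IsLocalRing.maximalIdeal A ^ (n + 2)))) := ⟨T.p (n + 1)⟩
  let m := IsLocalRing.maximalIdeal A
  let B := A ⧸ m ^ (n + 2)
  let q : A →+* B := Ideal.Quotient.mk _
  have hne : m ^ (n + 2) ≠ ⊤ := ne_top_of_le_ne_top (IsLocalRing.maximalIdeal.isMaximal A).ne_top
    (Ideal.pow_le_self (by omega))
  haveI : Nontrivial B := Ideal.Quotient.nontrivial_iff.2 hne
  haveI : IsLocalRing B := IsLocalRing.of_surjective' q Ideal.Quotient.mk_surjective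
  have hle : m.map q ≠ ⊤ := by
    intro h
    have h' := congrArg (Ideal.comap q) h
    rw [Ideal.comap_map_of_surjective q Ideal.Quotient.mk_surjective, Ideal.comap_top, ← RingHom.ker_eq_comap_bot,
      Ideal.mk_ker, sup_eq_left.2 (Ideal.pow_le_self (by omega))] at h'
    exact (IsLocalRing.maximalIdeal.isMaximal A).ne_top h'
  have hmax : IsLocalRing.maximalIdeal B = m.map q :=
    ((Ideal.map_eq_top_or_isMaximal_of_surjective q Ideal.Quotient.mk_surjective
      (IsLocalRing.maximalIdeal.isMaximal A)).resolve_left hle |> IsLocalRing.eq_maximalIdeal).symm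
  obtain ⟨r, a, ha, hindep⟩ := exists_span_indep ((m ^ (n + 1)).map q) (IsNoetherian.noetherian _)
  refine ⟨r, a, hflat, inferInstance, inferInstance, fun U => ?_, fun U => ?_, ha,
    Ideal.map_mono (Ideal.pow_le_self (by omega)), ?_, fun c hc s => hmax ▸ hindep c hc s⟩
  · rw [W7Alg.ker_app_baseChange (f' := T.p n) (Ideal.Quotient.factor (Ideal.pow_le_pow_right (Nat.le_succ (n + 1))))
      (Ideal.Quotient.factor_surjective _) (T.cart n) U, Ideal.Quotient.factor_ker]
  · rw [W7Alg.ker_app_baseChange (f' := T.p 0) (Ideal.Quotient.factor (Ideal.pow_le_pow_right (show 1 ≤ n + 2 by omega)))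
      (Ideal.Quotient.factor_surjective _) (isPullback_j T (n + 1)) U, Ideal.Quotient.factor_ker, pow_one]
  · rw [← Ideal.map_mul, ← pow_succ', Ideal.map_quotient_self]

omit [IsNoetherianRing A] in
theorem isNilpotent_app (U : (T.X (n + 1)).Opens) (hU : IsAffineOpen U) (z : Γ(T.X (n + 1), U))
    (hz : (T.i n).app U z = 0) : IsNilpotent z := by
  let m := IsLocalRing.maximalIdeal A
  letI : (T.X (n + 1)).Over (Spec (CommRingCat.of (A ⧸ m ^ (n + 2)))) := ⟨T.p (n + 1)⟩
  have hk := W7Alg.ker_app_baseChange (f' := T.p n)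
    (Ideal.Quotient.factor (Ideal.pow_le_pow_right (Nat.le_succ (n + 1)))) (Ideal.Quotient.factor_surjective _)
    (T.cart n) ⟨U, hU⟩
  have hmem : z ∈ RingHom.ker ((T.i n).app U).hom := hz
  rw [hk, Ideal.Quotient.factor_ker] at hmem
  refine ⟨2, ?_⟩
  have h2 := Ideal.pow_mem_pow hmem 2
  rw [← Ideal.map_pow, ← Ideal.map_pow, ← pow_mul] at h2
  rw [← Ideal.mem_bot]
  refine Ideal.map_bot (f := W7Cech.secRing (A ⧸ m ^ (n + 2)) U) ▸ Ideal.map_mono (le_of_le_of_eq ?_ (Ideal.map_quotient_self (m ^ (n + 2)))) h2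
  exact Ideal.map_mono (Ideal.pow_le_pow_right (by omega))

section

attribute [local instance] W7Cube.law

theorem surjective_pull (hflat : Flat (T.p (n + 1)))
    (h2 : Subsingleton (Coh.HH (T.X 0) (Coh.structureModule (T.X 0)) 2)) :
    Function.Surjective (W7Cube.pull (T.i n)) := by
  letI : (T.X (n + 1)).Over (Spec (CommRingCat.of (A ⧸ IsLocalRing.maximalIdeal A ^ (n + 2)))) := ⟨T.p (n + 1)⟩
  obtain ⟨r, a, D⟩ := exists_small T n hflat
  exact ThickPic.pullHom_surjective _ (isHomeomorph_i T n) (isNilpotent_app T n) _ (D.subsingleton_h 2 h2)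

theorem injective_pull (hflat : Flat (T.p (n + 1)))
    (h1 : Subsingleton (Coh.HH (T.X 0) (Coh.structureModule (T.X 0)) 1)) :
    Function.Injective (W7Cube.pull (T.i n)) := by
  letI : (T.X (n + 1)).Over (Spec (CommRingCat.of (A ⧸ IsLocalRing.maximalIdeal A ^ (n + 2)))) := ⟨T.p (n + 1)⟩
  obtain ⟨r, a, D⟩ := exists_small T n hflat
  exact pullHom_injective _ _ (isHomeomorph_i T n) (isNilpotent_app T n) (D.subsingleton_h 1 h1)

/-- invertible modules lift along the tower -/
theorem exists_lifts (hflat : ∀ n, Flat (T.p n))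
    (h2 : Subsingleton (Coh.HH (T.X 0) (Coh.structureModule (T.X 0)) 2))
    (L₀ : (T.X 0).Modules) (hL₀ : PicF.IsInvertible L₀) :
    ∃ L : ∀ n, (T.X n).Modules, (∀ n, PicF.IsInvertible (L n)) ∧ Nonempty (L 0 ≅ L₀) ∧
      ∀ n, Nonempty ((Scheme.Modules.pullback (T.i n)).obj (L (n + 1)) ≅ L n) := by
  choose up hup using fun n => surjective_pull T n (hflat (n + 1)) h2
  let c : ∀ n, PicLoc.PicSet (T.X n) := fun n =>
    Nat.rec (motive := fun n => PicLoc.PicSet (T.X n)) (cls L₀ hL₀) (fun n a => up n a) n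
  choose L hL hc using fun n => exists_eq_cls (c n)
  refine ⟨L, hL, (cls_eq_cls_iff (hL 0) hL₀).1 (hc 0).symm, fun n => ?_⟩
  refine (cls_eq_cls_iff (PicLoc.isInvertible_pullback _ (hL (n + 1))) (hL n)).1 ?_
  rw [← W7Cube.pull_cls (T.i n) (L (n + 1)) (hL (n + 1)), ← hc, ← hc]
  exact hup n (c n)

/-- lifts along the tower are unique -/
theorem lifts_unique (hflat : ∀ n, Flat (T.p n))
    (h1 : Subsingleton (Coh.HH (T.X 0) (Coh.structureModule (T.X 0)) 1))
    {L L' : ∀ n, (T.X n).Modules} (hL : ∀ n, PicF.IsInvertible (L n)) (hL' : ∀ n, PicF.IsInvertible (L' n))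
    (hLt : ∀ n, Nonempty ((Scheme.Modules.pullback (T.i n)).obj (L (n + 1)) ≅ L n))
    (hL't : ∀ n, Nonempty ((Scheme.Modules.pullback (T.i n)).obj (L' (n + 1)) ≅ L' n))
    (e₀ : L 0 ≅ L' 0) (n : ℕ) : Nonempty (L n ≅ L' n) := by
  induction n with
  | zero => exact ⟨e₀⟩
  | succ n ih =>
    refine (cls_eq_cls_iff (hL _) (hL' _)).1 (injective_pull T n (hflat _) h1 ?_)
    rw [W7Cube.pull_cls, W7Cube.pull_cls, (cls_eq_cls_iff _ (hL n)).2 (hLt n), (cls_eq_cls_iff _ (hL' n)).2 (hL't n)]
    exact (cls_eq_cls_iff _ _).2 ih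

end

end Groth.Agent.ExpSeq.Deform
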