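import Groth.Agent.ExpSeq.DeformTower
import Mathlib.RingTheory.Artinian.Ring

/-!
# Units cohomology of flat schemes over Artinian local rings
-/

set_option autoImplicit false
set_option backward.isDefEq.respectTransparency false
set_option backward.isDefEq.respectTransparency.types false
set_option linter.style.haveILetI false
set_option maxHeartbeats 1000000

universe u

open CategoryTheory CategoryTheory.Limits CategoryTheory.Abelian AlgebraicGeometry TopologicalSpace Opposite

noncomputable section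

namespace Groth.Agent.ExpSeq.Deform

section gen

variable {T : TopCat.{u}}

theorem hmap_eq {F G : CohTop.Ab T} (φ : F ⟶ G) (q : ℕ) (x : CohTop.H F q) :
    Sheaf.H.map φ q x = Ext.comp x (Ext.mk₀ φ) (add_zero q) := rfl

theorem hmap_comp {F G H : CohTop.Ab T} (φ : F ⟶ G) (ψ : G ⟶ H) (q : ℕ) (x : CohTop.H F q) :
    Sheaf.H.map (φ ≫ ψ) q x = Sheaf.H.map ψ q (Sheaf.H.map φ q x) := by
  rw [hmap_eq, hmap_eq, hmap_eq, Ext.comp_assoc_of_second_deg_zero, Ext.mk₀_comp_mk₀]

variable {S : ShortComplex (CohTop.Ab T)} (hS : S.ShortExact)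

include hS

theorem hmap_injective (q : ℕ) (h : Subsingleton (CohTop.H S.X₁ q)) : Function.Injective (Sheaf.H.map S.g q) := by
  refine (injective_iff_map_eq_zero _).2 fun x hx => ?_
  obtain ⟨y, rfl⟩ := Ext.covariant_sequence_exact₂ _ hS x ((hmap_eq _ _ _).symm.trans hx)
  rw [h.elim y 0, Ext.zero_comp]

theorem hmap_surjective (q : ℕ) (h : Subsingleton (CohTop.H S.X₁ (q + 1))) :
    Function.Surjective (Sheaf.H.map S.g q) := fun y => by
  obtain ⟨x, hx⟩ := Ext.covariant_sequence_exact₃ _ hS y rfl (h.elim _ _)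
  exact ⟨x, (hmap_eq _ _ _).trans hx⟩

theorem eq_zero_zero (x : CohTop.H S.X₁ 0) (h0 : Ext.comp x (Ext.mk₀ S.f) (add_zero 0) = 0) : x = 0 := by
  haveI := hS.mono_f
  obtain ⟨φ, rfl⟩ := (Ext.mk₀_bijective _ _).2 x
  have h1 : φ ≫ S.f = 0 := by
    refine (Ext.mk₀_bijective _ _).1 ?_
    rw [← Ext.mk₀_comp_mk₀, h0, Ext.mk₀_zero]
  rw [Limits.zero_of_comp_mono S.f h1, Ext.mk₀_zero]

theorem eq_zero_succ (q : ℕ) (hsurj : Function.Surjective (Sheaf.H.map S.g q)) (x : CohTop.H S.X₁ (q + 1))
    (h0 : Ext.comp x (Ext.mk₀ S.f) (add_zero (q + 1)) = 0) : x = 0 := by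
  obtain ⟨z, hz⟩ := Ext.covariant_sequence_exact₁ _ hS x h0 rfl
  obtain ⟨w, hw⟩ := hsurj z
  rw [← hz, ← hw, hmap_eq, Ext.comp_assoc_of_second_deg_zero, hS.comp_extClass, Ext.comp_zero]

omit hS in
theorem comp_comp_zero {F G H : CohTop.Ab T} (φ : F ⟶ G) (ψ : G ⟶ H) (w : φ ≫ ψ = 0) (q : ℕ) (x : CohTop.H F q) :
    Ext.comp (Ext.comp x (Ext.mk₀ φ) (add_zero q)) (Ext.mk₀ ψ) (add_zero q) = 0 := by
  rw [Ext.comp_assoc_of_second_deg_zero, Ext.mk₀_comp_mk₀, w, Ext.mk₀_zero, Ext.comp_zero]

omit hS in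
theorem comp_f_eq_zero {F G H : CohTop.Ab T} (φ : F ⟶ G) (ψ : G ⟶ H) (w : φ ≫ ψ = 0) (q : ℕ)
    (hinj : Function.Injective (Sheaf.H.map ψ q)) (x : CohTop.H F q) :
    Ext.comp x (Ext.mk₀ φ) (add_zero q) = 0 := by
  have h1 : Sheaf.H.map ψ q (Ext.comp x (Ext.mk₀ φ) (add_zero q)) = 0 := comp_comp_zero φ ψ w q x
  exact (injective_iff_map_eq_zero _).1 hinj _ h1

theorem subsingleton_fst (q : ℕ) (hinj : Function.Injective (Sheaf.H.map S.g q))
    (hsurj : ∀ q', q' + 1 = q → Function.Surjective (Sheaf.H.map S.g q')) : Subsingleton (CohTop.H S.X₁ q) :=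
  subsingleton_of_forall_eq 0 fun x => by
    cases q with
    | zero => exact eq_zero_zero hS x (comp_f_eq_zero S.f S.g S.zero 0 hinj x)
    | succ q => exact eq_zero_succ hS q (hsurj q rfl) x (comp_f_eq_zero S.f S.g S.zero _ hinj x)

omit hS in
theorem injective_comp {F G H : CohTop.Ab T} (φ : F ⟶ G) (ψ : G ⟶ H) (q : ℕ)
    (h1 : Function.Injective (Sheaf.H.map φ q)) (h2 : Function.Injective (Sheaf.H.map ψ q)) :
    Function.Injective (Sheaf.H.map (φ ≫ ψ) q) := fun x y h => by
  rw [hmap_comp, hmap_comp] at h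
  exact h1 (h2 h)

omit hS in
theorem surjective_comp {F G H : CohTop.Ab T} (φ : F ⟶ G) (ψ : G ⟶ H) (q : ℕ)
    (h1 : Function.Surjective (Sheaf.H.map φ q)) (h2 : Function.Surjective (Sheaf.H.map ψ q)) :
    Function.Surjective (Sheaf.H.map (φ ≫ ψ) q) := fun z => by
  obtain ⟨w, rfl⟩ := h2 z
  obtain ⟨x, rfl⟩ := h1 w
  exact ⟨x, hmap_comp _ _ q x⟩

end gen

theorem comap_comp {Z R Y : Scheme.{u}} (t : Z ⟶ R) (i : R ⟶ Y) :
    UnitsSh.comap (t ≫ i) = UnitsSh.comap i ≫ (CohTop.push i.base).map (UnitsSh.comap t) := by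
  apply Sheaf.hom_ext
  ext U s
  rfl

theorem isIso_comap {R Y : Scheme.{u}} (i : R ⟶ Y) [IsIso i] : IsIso (UnitsSh.comap i) := by
  haveI : ∀ U, IsIso ((UnitsSh.comap i).hom.app U) := fun U =>
    inferInstanceAs (IsIso (UnitsSh.unitsFunctor.map (i.app U.unop)))
  haveI : IsIso (UnitsSh.comap i).hom := NatIso.isIso_of_isIso_app _
  haveI : IsIso ((sheafToPresheaf _ _).map (UnitsSh.comap i)) := inferInstanceAs (IsIso (UnitsSh.comap i).hom)
  exact isIso_of_reflects_iso _ (sheafToPresheaf _ _)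

variable {A : Type u} [CommRing A] {Y : Scheme.{u}} (p : Y ⟶ Spec (CommRingCat.of A))

/-- the closed immersion of a quotient of the base -/
abbrev iq (J : Ideal A) : pullback p (Spec.map (CommRingCat.ofHom (Ideal.Quotient.mk J))) ⟶ Y := pullback.fst _ _

/-- the map between quotient levels -/
def tq {J J' : Ideal A} (h : J ≤ J') :
    pullback p (Spec.map (CommRingCat.ofHom (Ideal.Quotient.mk J'))) ⟶
      pullback p (Spec.map (CommRingCat.ofHom (Ideal.Quotient.mk J))) :=
  pullback.lift (iq p J') (pullback.snd _ _ ≫ Spec.map (CommRingCat.ofHom (Ideal.Quotient.factor h))) (by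
    rw [Category.assoc, ← Spec.map_comp, ← CommRingCat.ofHom_comp, Ideal.Quotient.factor_comp_mk]
    exact pullback.condition)

theorem tq_iq {J J' : Ideal A} (h : J ≤ J') : tq p h ≫ iq p J = iq p J' := pullback.lift_fst _ _ _

theorem isPullback_tq {J J' : Ideal A} (h : J ≤ J') :
    IsPullback (tq p h) (pullback.snd _ _) (pullback.snd _ _)
      (Spec.map (CommRingCat.ofHom (Ideal.Quotient.factor h))) :=
  IsPullback.of_right (by
    rw [tq_iq, ← Spec.map_comp, ← CommRingCat.ofHom_comp, Ideal.Quotient.factor_comp_mk]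
    exact IsPullback.of_hasPullback _ _)
    (pullback.lift_snd _ _ _) (IsPullback.of_hasPullback _ _)

theorem isClosedImmersion_iq (J : Ideal A) : IsClosedImmersion (iq p J) := by
  haveI : IsClosedImmersion (Spec.map (CommRingCat.ofHom (Ideal.Quotient.mk J))) :=
    IsClosedImmersion.spec_of_surjective _ Ideal.Quotient.mk_surjective
  exact MorphismProperty.pullback_fst _ _ inferInstance

theorem isClosedImmersion_tq {J J' : Ideal A} (h : J ≤ J') : IsClosedImmersion (tq p h) := by
  haveI := isClosedImmersion_iq p J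
  haveI := isClosedImmersion_iq p J'
  haveI : IsClosedImmersion (tq p h ≫ iq p J) := by rw [tq_iq]; infer_instance
  exact IsClosedImmersion.of_comp _ (iq p J)

variable [IsArtinianRing A] [IsLocalRing A]

theorem isHomeomorph_iq {J : Ideal A} (hJ : J ≤ IsLocalRing.maximalIdeal A) : IsHomeomorph (iq p J).base := by
  haveI := isClosedImmersion_iq p J
  refine isHomeomorph_iff_isEmbedding_surjective.2 ⟨(iq p J).isClosedEmbedding.isEmbedding, Set.range_eq_univ.1 ?_⟩
  refine (Scheme.Pullback.range_fst _ _).trans (Set.eq_univ_of_forall fun y => ?_)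
  change _ ∈ Set.range (PrimeSpectrum.comap (Ideal.Quotient.mk J))
  rw [range_comap_of_surjective _ _ Ideal.Quotient.mk_surjective, Ideal.mk_ker]
  intro a ha
  have hm : (p y).asIdeal.IsMaximal := IsArtinianRing.isMaximal_of_isPrime _
  rw [IsLocalRing.eq_maximalIdeal hm]
  exact hJ ha

theorem isHomeomorph_tq {J J' : Ideal A} (h : J ≤ J') (hJ : J' ≤ IsLocalRing.maximalIdeal A) :
    IsHomeomorph (tq p h).base := by
  haveI := isClosedImmersion_tq p h
  refine isHomeomorph_iff_isEmbedding_surjective.2 ⟨(tq p h).isClosedEmbedding.isEmbedding, fun y => ?_⟩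
  obtain ⟨x, hx⟩ := (isHomeomorph_iq p hJ).surjective ((iq p J).base y)
  exact ⟨x, (isHomeomorph_iq p (h.trans hJ)).injective ((congrArg (fun g => g.base x) (tq_iq p h)).trans hx)⟩

variable [Flat p]

/-- no cohomology in the kernel between two close levels -/
theorem subsingleton_step {J J' : Ideal A} (h : J ≤ J') (hJ' : J' ≤ IsLocalRing.maximalIdeal A)
    (hm : IsLocalRing.maximalIdeal A * J' ≤ J) (q : ℕ)
    (hq : Subsingleton (Coh.HH (pullback p (Spec.map (CommRingCat.ofHom (IsLocalRing.residue A)))) (Coh.structureModule _) q)) :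
    Subsingleton (CohTop.H (kernel (UnitsSh.comap (tq p h))) q) := by
  let m := IsLocalRing.maximalIdeal A
  let B := A ⧸ J
  let k : A →+* B := Ideal.Quotient.mk J
  letI : (pullback p (Spec.map (CommRingCat.ofHom k))).Over (Spec (CommRingCat.of B)) := ⟨pullback.snd _ _⟩
  haveI : Nontrivial B := Ideal.Quotient.nontrivial_iff.2
    (ne_top_of_le_ne_top (IsLocalRing.maximalIdeal.isMaximal A).ne_top (h.trans hJ'))
  haveI : IsLocalRing B := IsLocalRing.of_surjective' k Ideal.Quotient.mk_surjective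
  have hle : m.map k ≠ ⊤ := by
    intro h'
    have h'' := congrArg (Ideal.comap k) h'
    rw [Ideal.comap_map_of_surjective k Ideal.Quotient.mk_surjective, Ideal.comap_top, ← RingHom.ker_eq_comap_bot,
      Ideal.mk_ker, sup_eq_left.2 (h.trans hJ')] at h''
    exact (IsLocalRing.maximalIdeal.isMaximal A).ne_top h''
  have hmax : IsLocalRing.maximalIdeal B = m.map k :=
    ((Ideal.map_eq_top_or_isMaximal_of_surjective k Ideal.Quotient.mk_surjective
      (IsLocalRing.maximalIdeal.isMaximal A)).resolve_left hle |> IsLocalRing.eq_maximalIdeal).symm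
  obtain ⟨r, a, ha, hindep⟩ := exists_span_indep (J'.map k) (IsNoetherian.noetherian _)
  have D : Small (tq p h) (tq p (h.trans hJ')) (J'.map k) (m.map k) a :=
    ⟨MorphismProperty.pullback_snd p (Spec.map (CommRingCat.ofHom k)) ‹Flat p›, isClosedImmersion_tq p h,
      isClosedImmersion_tq p _,
      fun U => by rw [W7Alg.ker_app_baseChange _ (Ideal.Quotient.factor_surjective h) (isPullback_tq p h) U,
        Ideal.Quotient.factor_ker],
      fun U => by rw [W7Alg.ker_app_baseChange _ (Ideal.Quotient.factor_surjective (h.trans hJ'))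
        (isPullback_tq p (h.trans hJ')) U, Ideal.Quotient.factor_ker],
      ha, Ideal.map_mono hJ', by rw [← Ideal.map_mul, Ideal.map_eq_bot_iff_le_ker, Ideal.mk_ker]; exact hm,
      fun c hc s => hmax ▸ hindep c hc s⟩
  exact D.subsingleton_h q hq

omit [IsArtinianRing A] [Flat p] in
theorem isNilpotent_tq {J J' : Ideal A} (h : J ≤ J') (hJ' : J' ≤ IsLocalRing.maximalIdeal A)
    (hm : IsLocalRing.maximalIdeal A * J' ≤ J)
    (U : (pullback p (Spec.map (CommRingCat.ofHom (Ideal.Quotient.mk J)))).Opens) (hU : IsAffineOpen U)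
    (z : Γ(pullback p (Spec.map (CommRingCat.ofHom (Ideal.Quotient.mk J))), U))
    (hz : (tq p h).app U z = 0) : IsNilpotent z := by
  letI : (pullback p (Spec.map (CommRingCat.ofHom (Ideal.Quotient.mk J)))).Over (Spec (CommRingCat.of (A ⧸ J))) :=
    ⟨pullback.snd _ _⟩
  have hmem : z ∈ RingHom.ker ((tq p h).app U).hom := hz
  rw [W7Alg.ker_app_baseChange _ (Ideal.Quotient.factor_surjective h) (isPullback_tq p h) ⟨U, hU⟩,
    Ideal.Quotient.factor_ker] at hmem
  refine ⟨2, ?_⟩
  have h2 := Ideal.pow_mem_pow hmem 2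
  rw [← Ideal.map_pow, ← Ideal.map_pow, pow_two J'] at h2
  rw [← Ideal.mem_bot]
  refine Ideal.map_bot (f := W7Cech.secRing (A ⧸ J) U) ▸ Ideal.map_mono ?_ h2
  rw [Ideal.map_le_iff_le_comap, ← RingHom.ker_eq_comap_bot, Ideal.mk_ker]
  exact (Ideal.mul_mono_left hJ').trans hm

theorem step {J J' : Ideal A} (h : J ≤ J') (hJ' : J' ≤ IsLocalRing.maximalIdeal A)
    (hm : IsLocalRing.maximalIdeal A * J' ≤ J) (q : ℕ) :
    (Subsingleton (Coh.HH (pullback p (Spec.map (CommRingCat.ofHom (IsLocalRing.residue A)))) (Coh.structureModule _) q) →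
      Function.Injective (Sheaf.H.map (UnitsSh.comap (iq p J)) q) →
      Function.Injective (Sheaf.H.map (UnitsSh.comap (iq p J')) q)) ∧
    (Subsingleton (Coh.HH (pullback p (Spec.map (CommRingCat.ofHom (IsLocalRing.residue A)))) (Coh.structureModule _) (q + 1)) →
      Function.Surjective (Sheaf.H.map (UnitsSh.comap (iq p J)) q) →
      Function.Surjective (Sheaf.H.map (UnitsSh.comap (iq p J')) q)) := by
  haveI := isClosedImmersion_tq p h
  have hi := isHomeomorph_iq p (h.trans hJ')
  haveI := isClosedImmersion_iq p J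
  have hS := push_shortExact hi (ThickPic.kerSeq_shortExact (tq p h) (isHomeomorph_tq p h hJ') (isNilpotent_tq p h hJ' hm))
  have hK : ∀ q, Subsingleton (Coh.HH (pullback p (Spec.map (CommRingCat.ofHom (IsLocalRing.residue A)))) (Coh.structureModule _) q) →
      Subsingleton (CohTop.H ((CohTop.push (iq p J).base).obj (kernel (UnitsSh.comap (tq p h)))) q) := fun q hq => by
    obtain ⟨e⟩ := S0459.result (X := (pullback p (Spec.map (CommRingCat.ofHom (Ideal.Quotient.mk J)))).toTopCat)
      (Y := Y.toTopCat) (iq p J).base (iq p J).isClosedEmbedding (kernel (UnitsSh.comap (tq p h))) q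
    exact @Function.Surjective.subsingleton _ _ _ (subsingleton_step p h hJ' hm q hq) e.surjective
  rw [← tq_iq p h, comap_comp]
  exact ⟨fun hq hinj => injective_comp _ _ q hinj (hmap_injective hS q (hK q hq)),
    fun hq hsurj => surjective_comp _ _ q hsurj (hmap_surjective hS q (hK _ hq))⟩

theorem both (J : Ideal A) (hJ : J ≤ IsLocalRing.maximalIdeal A) (q : ℕ) :
    (Subsingleton (Coh.HH (pullback p (Spec.map (CommRingCat.ofHom (IsLocalRing.residue A)))) (Coh.structureModule _) q) →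
      Function.Injective (Sheaf.H.map (UnitsSh.comap (iq p J)) q)) ∧
    (Subsingleton (Coh.HH (pullback p (Spec.map (CommRingCat.ofHom (IsLocalRing.residue A)))) (Coh.structureModule _) (q + 1)) →
      Function.Surjective (Sheaf.H.map (UnitsSh.comap (iq p J)) q)) := by
  obtain ⟨n, hn⟩ : IsNilpotent (IsLocalRing.maximalIdeal A) := by
    rw [← IsLocalRing.jacobson_eq_maximalIdeal (⊥ : Ideal A) bot_ne_top]
    exact IsArtinianRing.isNilpotent_jacobson_bot
  suffices key : ∀ k (J : Ideal A), J ≤ IsLocalRing.maximalIdeal A → IsLocalRing.maximalIdeal A ^ k * J = ⊥ →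
      (Subsingleton (Coh.HH (pullback p (Spec.map (CommRingCat.ofHom (IsLocalRing.residue A)))) (Coh.structureModule _) q) →
        Function.Injective (Sheaf.H.map (UnitsSh.comap (iq p J)) q)) ∧
      (Subsingleton (Coh.HH (pullback p (Spec.map (CommRingCat.ofHom (IsLocalRing.residue A)))) (Coh.structureModule _) (q + 1)) →
        Function.Surjective (Sheaf.H.map (UnitsSh.comap (iq p J)) q)) from
    key n J hJ (by rw [hn, Ideal.zero_eq_bot, Ideal.bot_mul])
  intro k
  induction k with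
  | zero =>
    intro J _ hJ0
    rw [pow_zero, Ideal.one_eq_top, Ideal.top_mul] at hJ0
    subst hJ0
    haveI : IsIso (Spec.map (CommRingCat.ofHom (Ideal.Quotient.mk (⊥ : Ideal A)))) := by
      haveI : IsIso (CommRingCat.ofHom (Ideal.Quotient.mk (⊥ : Ideal A))) :=
        (ConcreteCategory.isIso_iff_bijective _).2 ⟨(RingHom.injective_iff_ker_eq_bot _).2 Ideal.mk_ker, Ideal.Quotient.mk_surjective⟩
      infer_instance
    haveI := isIso_comap (iq p ⊥)
    have hb : Function.Bijective (Sheaf.H.map (UnitsSh.comap (iq p ⊥)) q) :=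
      ((Sheaf.functorH (Opens.grothendieckTopology Y.toTopCat) q).mapIso (asIso (UnitsSh.comap (iq p ⊥)))).addCommGroupIsoToAddEquiv.bijective
    exact ⟨fun _ => hb.1, fun _ => hb.2⟩
  | succ k ih =>
    intro J hJ hJk
    have hle : IsLocalRing.maximalIdeal A * J ≤ J := Ideal.mul_le_right
    obtain ⟨h1, h2⟩ := ih (IsLocalRing.maximalIdeal A * J) (hle.trans hJ) (by rw [← mul_assoc, ← pow_succ, hJk])
    obtain ⟨s1, s2⟩ := step p hle hJ le_rfl q
    exact ⟨fun h => s1 h (h1 h), fun h => s2 h (h2 h)⟩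

/-- the principal units have no cohomology -/
theorem subsingleton_kernel (q : ℕ)
    (hq : Subsingleton (Coh.HH (pullback p (Spec.map (CommRingCat.ofHom (IsLocalRing.residue A)))) (Coh.structureModule _) q)) :
    Subsingleton (CohTop.H (kernel (UnitsSh.comap (iq p (IsLocalRing.maximalIdeal A)))) q) := by
  haveI := isClosedImmersion_iq p (IsLocalRing.maximalIdeal A)
  have hnil : ∀ (U : Y.Opens), IsAffineOpen U → ∀ z : Γ(Y, U), (iq p (IsLocalRing.maximalIdeal A)).app U z = 0 →
      IsNilpotent z := fun U hU z hz => by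
    letI : Y.Over (Spec (CommRingCat.of A)) := ⟨p⟩
    have hmem : z ∈ RingHom.ker ((iq p (IsLocalRing.maximalIdeal A)).app U).hom := hz
    rw [W7Alg.ker_app_baseChange _ Ideal.Quotient.mk_surjective (IsPullback.of_hasPullback _ _) ⟨U, hU⟩,
      Ideal.mk_ker] at hmem
    obtain ⟨n, hn⟩ : IsNilpotent (IsLocalRing.maximalIdeal A) := by
      rw [← IsLocalRing.jacobson_eq_maximalIdeal (⊥ : Ideal A) bot_ne_top]
      exact IsArtinianRing.isNilpotent_jacobson_bot
    refine ⟨n, ?_⟩
    have h2 := Ideal.pow_mem_pow hmem n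
    rwa [← Ideal.map_pow, hn, Ideal.zero_eq_bot, Ideal.map_bot, Ideal.mem_bot] at h2
  refine subsingleton_fst (ThickPic.kerSeq_shortExact _ (isHomeomorph_iq p le_rfl) hnil) q
    ((both p _ le_rfl q).1 hq) fun q' hq' => ?_
  subst hq'
  exact (both p _ le_rfl q').2 hq

end Groth.Agent.ExpSeq.Deform
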