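import Groth.Agent.ThickPic.UnitsKer
import Groth.Agent.W7Alg.Closed
import Groth.Agent.S0459
import Mathlib.RingTheory.Flat.EquationalCriterion

/-!
# The kernel of restriction of units along a small flat deformation
-/

set_option autoImplicit false
set_option backward.isDefEq.respectTransparency false
set_option backward.isDefEq.respectTransparency.types false
set_option linter.style.haveILetI false
set_option maxHeartbeats 1000000

universe u

open CategoryTheory CategoryTheory.Limits CategoryTheory.Abelian AlgebraicGeometry TopologicalSpace Opposite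
open Groth.Agent.ZarPicLib (sec rr oval oval_add oval_injective app_rr)
open Groth.Agent.QC (resO resO_resO)
open Groth.Agent.W7Cech (secRing resO_secRing)

noncomputable section

attribute [local instance] CategoryTheory.Abelian.hasFiniteBiproducts

namespace Groth.Agent.ExpSeq.Deform

variable {A : Type u} [CommRing A] {Y R X₀ : Scheme.{u}} [Y.Over (Spec (CommRingCat.of A))]

/-- sections over an affine of a flat scheme over the base form a flat module -/
theorem flat_secRing [Flat (Y ↘ Spec (CommRingCat.of A))] {U : Y.Opens} (hU : IsAffineOpen U) :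
    (secRing A U).Flat := by
  let p := Y ↘ Spec (CommRingCat.of A)
  have h := p.flat_appLE (isAffineOpen_top (Spec (CommRingCat.of A))) hU (le_top : U ≤ p ⁻¹ᵁ ⊤)
  have h' := RingHom.Flat.comp
    (RingHom.Flat.of_bijective (ConcreteCategory.bijective_of_isIso (Scheme.ΓSpecIso (CommRingCat.of A)).inv)) h
  exact h'

/-- a sum of morphisms on sections -/
theorem sum_app {T : TopCat.{u}} {F G : CohTop.Ab T} {J : Type} (S : Finset J) (φ : J → (F ⟶ G)) (U : Opens T)
    (x : sec F U) : (∑ s ∈ S, φ s).hom.app (op U) x = ∑ s ∈ S, (φ s).hom.app (op U) x := by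
  classical
  induction S using Finset.induction with
  | empty => rw [Finset.sum_empty, Finset.sum_empty]; rfl
  | insert s S hs ih => rw [Finset.sum_insert hs, Finset.sum_insert hs, ← ih]; rfl

theorem comp_app {T : TopCat.{u}} {F G H : CohTop.Ab T} (φ : F ⟶ G) (ψ : G ⟶ H) (U : Opens T) (x : sec F U) :
    (φ ≫ ψ).hom.app (op U) x = ψ.hom.app (op U) (φ.hom.app (op U) x) := rfl

theorem resO_app {S : Scheme.{u}} (g : S ⟶ Y) {U V : Y.Opens} (h : V ≤ U) (t : Γ(Y, U)) :
    resO S (g.preimage_mono h) (g.app U t) = g.app V (resO Y h t) :=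
  (ConcreteCategory.congr_hom (g.naturality (homOfLE h).op) t).symm

variable (j : R ⟶ Y) (j0 : X₀ ⟶ Y) (I m : Ideal A)

/-- Data of a small flat deformation `X₀ → R → Y`. -/
structure Small {r : ℕ} (a : Fin r → A) : Prop where
  flat : Flat (Y ↘ Spec (CommRingCat.of A))
  closed : IsClosedImmersion j
  closed0 : IsClosedImmersion j0
  kerj : ∀ U : Y.affineOpens, RingHom.ker (j.app U.1).hom = I.map (secRing A U.1)
  kerj0 : ∀ U : Y.affineOpens, RingHom.ker (j0.app U.1).hom = m.map (secRing A U.1)
  span : Ideal.span (Set.range a) = I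
  le : I ≤ m
  ann : m * I = ⊥
  indep : ∀ c : Fin r → A, ∑ s, c s * a s = 0 → ∀ s, c s ∈ m

variable {j j0 I m} {r : ℕ} {a : Fin r → A}

/-- the structure sheaf of the closed fibre, pushed forward -/
abbrev GG (j0 : X₀ ⟶ Y) : CohTop.Ab Y.toTopCat :=
  (CohTop.push j0.base).obj (Coh.toAb (Coh.structureModule X₀))

/-- restriction of functions to the closed fibre -/
def res0 (j0 : X₀ ⟶ Y) : Coh.toAb (Coh.structureModule Y) ⟶ GG j0 :=
  ⟨{ app := fun U => AddCommGrpCat.ofHom
      (show sec (Coh.toAb (Coh.structureModule Y)) U.unop →+ sec (GG j0) U.unop from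
        (j0.app U.unop).hom.toAddMonoidHom)
     naturality := fun U V g => by
      ext z
      exact (resO_app j0 g.unop.le z).symm }⟩

namespace Small

variable (D : Small j j0 I m a)
include D

theorem mem_I (s : Fin r) : a s ∈ I := D.span ▸ Ideal.subset_span ⟨s, rfl⟩

theorem mul_eq_zero (s t : Fin r) : a s * a t = 0 := by
  have h : a s * a t ∈ m * I := Ideal.mul_mem_mul (D.le (D.mem_I s)) (D.mem_I t)
  rwa [D.ann] at h

theorem app_sec (s : Fin r) (U : Y.Opens) : j.app U (secRing A U (a s)) = 0 := by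
  refine TopCat.Presheaf.IsSheaf.section_ext R.sheaf.2 fun x hx => ?_
  obtain ⟨W, hW, hxW, hWU'⟩ := exists_isAffineOpen_mem_and_subset (X := Y) (x := j x) (U := U) hx
  have hWU : W ≤ U := hWU'
  refine ⟨j ⁻¹ᵁ W, j.preimage_mono hWU, hxW, ?_⟩
  change resO R (j.preimage_mono hWU) (j.app U (secRing A U (a s))) = resO R (j.preimage_mono hWU) 0
  rw [resO_app j hWU, resO_secRing, map_zero]
  have h : secRing A W (a s) ∈ RingHom.ker (j.app W).hom := by
    rw [D.kerj ⟨W, hW⟩]; exact Ideal.mem_map_of_mem _ (D.mem_I s)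
  exact h

theorem sec_mul (s : Fin r) {U : Y.Opens} {t : Γ(Y, U)} (ht : j0.app U t = 0) : secRing A U (a s) * t = 0 := by
  refine TopCat.Presheaf.IsSheaf.section_ext Y.sheaf.2 fun x hx => ?_
  obtain ⟨W, hW, hxW, hWU⟩ := exists_isAffineOpen_mem_and_subset (X := Y) (x := x) (U := U) hx
  refine ⟨W, hWU, hxW, ?_⟩
  change resO Y hWU (secRing A U (a s) * t) = resO Y hWU 0
  rw [map_mul, resO_secRing, map_zero]
  have h : resO Y hWU t ∈ RingHom.ker (j0.app W).hom := by
    rw [RingHom.mem_ker, ← resO_app j0 hWU, ht, map_zero]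
  rw [D.kerj0 ⟨W, hW⟩] at h
  have h2 := Ideal.mul_mem_mul h (Ideal.mem_map_of_mem (secRing A W) (D.mem_I s))
  rw [← Ideal.map_mul, D.ann, Ideal.map_bot] at h2
  rw [_root_.mul_comm]
  exact h2

/-- `1 + a t` as a unit -/
def onePlus (s : Fin r) (U : Y.Opens) (t : Γ(Y, U)) : Γ(Y, U)ˣ where
  val := 1 + secRing A U (a s) * t
  inv := 1 - secRing A U (a s) * t
  val_inv := by
    have h : secRing A U (a s) * secRing A U (a s) = 0 := by rw [← map_mul, D.mul_eq_zero, map_zero]
    linear_combination -(t * t) * h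
  inv_val := by
    have h : secRing A U (a s) * secRing A U (a s) = 0 := by rw [← map_mul, D.mul_eq_zero, map_zero]
    linear_combination -(t * t) * h

/-- `t ↦ 1 + a t` -/
def gam (s : Fin r) : Coh.toAb (Coh.structureModule Y) ⟶ UnitsSh.unitsAb Y :=
  ⟨{ app := fun U => AddCommGrpCat.ofHom (show sec (Coh.toAb (Coh.structureModule Y)) U.unop →+ sec (UnitsSh.unitsAb Y) U.unop from
      AddMonoidHom.mk' (fun t => UnitsSh.sectOfUnit (O := Y.presheaf) (D.onePlus s U.unop t))
        fun (t t' : Γ(Y, U.unop)) => oval_injective (by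
          rw [oval_add]
          change 1 + secRing A U.unop (a s) * (t + t') = (1 + secRing A U.unop (a s) * t) * (1 + secRing A U.unop (a s) * t')
          have h : secRing A U.unop (a s) * secRing A U.unop (a s) = 0 := by rw [← map_mul, D.mul_eq_zero, map_zero]
          linear_combination -(t * t') * h))
     naturality := fun U V g => by
      ext t
      refine oval_injective ?_
      change 1 + secRing A V.unop (a s) * resO Y g.unop.le (show Γ(Y, U.unop) from t) = resO Y g.unop.le (1 + secRing A U.unop (a s) * (show Γ(Y, U.unop) from t))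
      rw [map_add, map_one, map_mul, resO_secRing] }⟩

theorem oval_gam (s : Fin r) (U : Y.Opens) (t : Γ(Y, U)) :
    oval ((D.gam s).hom.app (op U) t) = 1 + secRing A U (a s) * t := rfl

theorem gam_comap (s : Fin r) : D.gam s ≫ UnitsSh.comap j = 0 := by
  apply Sheaf.hom_ext
  ext U t
  haveI := D.closed
  change (UnitsSh.comap j).hom.app (op U.unop) ((D.gam s).hom.app (op U.unop) t) = 0
  rw [ThickPic.comap_eq_zero_iff, oval_gam, map_add, map_one, map_mul, D.app_sec, zero_mul, add_zero]

/-- `t ↦ 1 + a t` into the kernel -/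
def gamK (s : Fin r) : Coh.toAb (Coh.structureModule Y) ⟶ kernel (UnitsSh.comap j) :=
  kernel.lift _ (D.gam s) (D.gam_comap s)

theorem epi_res0 : Epi (res0 j0) := by
  haveI := D.closed0
  refine (TopCat.Sheaf.isLocallySurjective_iff_epi (X := Y.toTopCat) (res0 j0)).1 ?_
  rw [TopCat.Presheaf.isLocallySurjective_iff]
  intro U s x hx
  obtain ⟨W, hW, hxW, hWU⟩ := exists_isAffineOpen_mem_and_subset (X := Y) (x := x) (U := U) hx
  obtain ⟨t, ht⟩ := j0.app_surjective W hW (resO X₀ (j0.preimage_mono hWU) s)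
  exact ⟨W, hWU, ⟨t, ht⟩, hxW⟩

theorem kernel_gamK (s : Fin r) : kernel.ι (res0 j0) ≫ D.gamK s = 0 := by
  rw [← cancel_mono (kernel.ι (UnitsSh.comap j)), Category.assoc, gamK, kernel.lift_ι, zero_comp]
  apply Sheaf.hom_ext
  ext U t
  refine oval_injective ?_
  change oval ((D.gam s).hom.app (op U.unop) ((kernel.ι (res0 j0)).hom.app (op U.unop) t)) = _
  have h0 : j0.app U.unop ((kernel.ι (res0 j0)).hom.app (op U.unop) t) = 0 :=
    ConcreteCategory.congr_hom (NatTrans.congr_app (congrArg (fun e => e.hom) (kernel.condition (res0 j0))) U) t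
  rw [oval_gam, D.sec_mul s h0, add_zero]
  rfl

/-- the components of the comparison -/
def beta (s : Fin r) : GG j0 ⟶ kernel (UnitsSh.comap j) :=
  haveI := D.epi_res0
  Abelian.epiDesc (res0 j0) (D.gamK s) (D.kernel_gamK s)

theorem res0_beta (s : Fin r) : res0 j0 ≫ D.beta s = D.gamK s :=
  haveI := D.epi_res0
  Abelian.comp_epiDesc _ _ _

/-- the comparison map -/
def Phi : (⨁ fun _ : Fin r => GG j0) ⟶ kernel (UnitsSh.comap j) := biproduct.desc D.beta

/-- the candidate preimage -/
def cand (U : Y.Opens) (t : Fin r → Γ(Y, U)) : sec (⨁ fun _ : Fin r => GG j0) U :=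
  ∑ s, (biproduct.ι (fun _ : Fin r => GG j0) s).hom.app (op U) ((res0 j0).hom.app (op U) (t s))

theorem oval_Phi_cand (U : Y.Opens) (t : Fin r → Γ(Y, U)) :
    oval ((kernel.ι (UnitsSh.comap j)).hom.app (op U) (D.Phi.hom.app (op U) (cand U t))) =
      1 + ∑ s, secRing A U (a s) * t s := by
  classical
  rw [cand, map_sum, map_sum]
  have key : ∀ s, (kernel.ι (UnitsSh.comap j)).hom.app (op U) (D.Phi.hom.app (op U)
      ((biproduct.ι (fun _ : Fin r => GG j0) s).hom.app (op U) ((res0 j0).hom.app (op U) (t s)))) =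
      (D.gam s).hom.app (op U) (t s) := fun s => by
    rw [← comp_app (biproduct.ι _ s) D.Phi, Phi, biproduct.ι_desc, ← comp_app (res0 j0), D.res0_beta,
      ← comp_app (D.gamK s), gamK, kernel.lift_ι]
  rw [Finset.sum_congr rfl fun s _ => key s]
  generalize (Finset.univ : Finset (Fin r)) = S
  induction S using Finset.induction with
  | empty => rw [Finset.sum_empty, Finset.sum_empty, add_zero]; exact ZarPicLib.oval_zero U
  | insert s S hs ih =>
    rw [Finset.sum_insert hs, Finset.sum_insert hs, oval_add, ih, oval_gam, mul_add, mul_one, add_mul, one_mul,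
      Finset.mul_sum, Finset.sum_eq_zero (s := S) (f := fun u => secRing A U (a s) * t s * (secRing A U (a u) * t u))
        fun u _ => by
          have h : secRing A U (a s) * secRing A U (a u) = 0 := by rw [← map_mul, D.mul_eq_zero, map_zero]
          linear_combination (t s * t u) * h]
    ring

theorem epi_Phi : Epi D.Phi := by
  classical
  haveI := D.closed
  refine (TopCat.Sheaf.isLocallySurjective_iff_epi (X := Y.toTopCat) D.Phi).1 ?_
  rw [TopCat.Presheaf.isLocallySurjective_iff]
  intro U s x hx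
  obtain ⟨W, hW, hxW, hWU⟩ := exists_isAffineOpen_mem_and_subset (X := Y) (x := x) (U := U) hx
  let s' : sec (kernel (UnitsSh.comap j)) W := rr _ hWU s
  let z := oval ((kernel.ι (UnitsSh.comap j)).hom.app (op W) s')
  have hz : j.app W z = 1 := (ThickPic.comap_eq_zero_iff j _).1 (ZarPicLib.g_f (S := ThickPic.kerSeq j) s')
  have hz' : z - 1 ∈ RingHom.ker (j.app W).hom := by
    rw [RingHom.mem_ker, map_sub, hz, map_one, sub_self]
  rw [D.kerj ⟨W, hW⟩, ← D.span, Ideal.map_span, ← Set.range_comp] at hz'
  obtain ⟨t, ht⟩ := (Ideal.mem_span_range_iff_exists_fun).1 hz'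
  refine ⟨W, hWU, ⟨cand W t, ?_⟩, hxW⟩
  have hinj : Function.Injective ((kernel.ι (UnitsSh.comap j)).hom.app (op W)) := by
    haveI : Mono ((sheafToPresheaf _ _).map (kernel.ι (UnitsSh.comap j))) := inferInstance
    exact (AddCommGrpCat.mono_iff_injective _).1 (inferInstanceAs (Mono (((sheafToPresheaf _ _).map (kernel.ι (UnitsSh.comap j))).app (op W))))
  refine hinj (oval_injective ?_)
  rw [D.oval_Phi_cand]
  change _ = z
  rw [show (∑ s, secRing A W (a s) * t s) = z - 1 by rw [← ht]; simp only [Function.comp_apply, _root_.mul_comm], add_sub_cancel]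

theorem mono_Phi : Mono D.Phi := by
  classical
  haveI := D.flat
  refine (sheafToPresheaf _ _).mono_of_mono_map ?_
  haveI : ∀ U, Mono (D.Phi.hom.app U) := fun U => by
    rw [AddCommGrpCat.mono_iff_injective, injective_iff_map_eq_zero]
    intro x hx
    refine TopCat.Presheaf.IsSheaf.section_ext (⨁ fun _ : Fin r => GG j0).2 fun y hy => ?_
    obtain ⟨W, hW, hyW, hWU⟩ := exists_isAffineOpen_mem_and_subset (X := Y) (x := y) (U := U.unop) hy
    refine ⟨W, hWU, hyW, ?_⟩
    change rr _ hWU x = rr _ hWU 0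
    rw [map_zero]
    let x' := rr (⨁ fun _ : Fin r => GG j0) hWU x
    haveI := D.closed0
    choose t ht using fun s => j0.app_surjective W hW ((biproduct.π (fun _ : Fin r => GG j0) s).hom.app (op W) x')
    have hx' : x' = cand W t := by
      have h : x' = (∑ s, biproduct.π (fun _ : Fin r => GG j0) s ≫ biproduct.ι (fun _ : Fin r => GG j0) s).hom.app (op W) x' := by
        rw [biproduct.total]; rfl
      rw [h, sum_app, cand]
      refine Finset.sum_congr rfl fun s _ => ?_
      rw [comp_app]
      exact congrArg _ (ht s).symm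
    have h0 : D.Phi.hom.app (op W) x' = 0 := by
      rw [show x' = rr _ hWU x from rfl, app_rr]
      exact (congrArg _ hx).trans (map_zero _)
    have h1 := D.oval_Phi_cand W t
    rw [← hx', h0, map_zero, ZarPicLib.oval_zero, eq_comm, add_eq_left] at h1
    letI : Algebra A Γ(Y, W) := (secRing A W).toAlgebra
    haveI : Module.Flat A Γ(Y, W) := flat_secRing hW
    obtain ⟨k, c, y', hty, hc⟩ := Module.Flat.isTrivialRelation_of_sum_smul_eq_zero (f := a) (x := t)
      (by simp only [Algebra.smul_def]; exact h1)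
    rw [show rr _ hWU x = x' from rfl, hx', cand]
    refine Finset.sum_eq_zero fun s _ => ?_
    have hm : t s ∈ RingHom.ker (j0.app W).hom := by
      rw [D.kerj0 ⟨W, hW⟩, hty s]
      refine Ideal.sum_mem _ fun l _ => ?_
      rw [Algebra.smul_def]
      exact Ideal.mul_mem_right _ _ (Ideal.mem_map_of_mem _ (D.indep (fun s => c s l) (by simpa only [_root_.mul_comm] using hc l) s))
    rw [show (res0 j0).hom.app (op W) (t s) = 0 from hm, map_zero]
  exact @NatTrans.mono_of_mono_app _ _ _ _ _ _ D.Phi.hom this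

/-- **no cohomology of the kernel from no cohomology of the closed fibre** -/
theorem subsingleton_h (q : ℕ)
    (hq : Subsingleton (Coh.HH X₀ (Coh.structureModule X₀) q)) :
    Subsingleton (CohTop.H (kernel (UnitsSh.comap j)) q) := by
  classical
  haveI := D.closed0
  haveI := D.epi_Phi
  haveI := D.mono_Phi
  haveI := isIso_of_mono_of_epi D.Phi
  obtain ⟨e⟩ := S0459.result (X := X₀.toTopCat) (Y := Y.toTopCat) j0.base j0.isClosedEmbedding
    (Coh.toAb (Coh.structureModule X₀)) q
  haveI : Subsingleton (CohTop.H (Coh.toAb (Coh.structureModule X₀)) q) := hq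
  have hG : Subsingleton (CohTop.H (GG j0) q) := @Function.Surjective.subsingleton _ _ _ hq e.surjective
  let e' := ((Sheaf.functorH (Opens.grothendieckTopology Y.toTopCat) q).mapIso (asIso D.Phi)).addCommGroupIsoToAddEquiv
  refine @Function.Surjective.subsingleton _ _ _ ?_ e'.surjective
  refine ⟨fun x y => ?_⟩
  suffices h : ∀ x : CohTop.H (⨁ fun _ : Fin r => GG j0) q, x = 0 by rw [h x, h y]
  intro x
  have h : x = ∑ s, (x.comp (Ext.mk₀ (biproduct.π (fun _ : Fin r => GG j0) s)) (add_zero q)).comp
      (Ext.mk₀ (biproduct.ι (fun _ : Fin r => GG j0) s)) (add_zero q) := by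
    conv_lhs => rw [← Ext.comp_mk₀_id x, ← biproduct.total (f := fun _ : Fin r => GG j0)]
    rw [Ext.mk₀_sum, Ext.comp_sum]
    refine Finset.sum_congr rfl fun s _ => ?_
    rw [Ext.comp_assoc_of_second_deg_zero, Ext.mk₀_comp_mk₀]
  rw [h]
  refine Finset.sum_eq_zero fun s _ => ?_
  rw [hG.elim (x.comp (Ext.mk₀ (biproduct.π (fun _ : Fin r => GG j0) s)) (add_zero q)) 0, Ext.zero_comp]

end Small

end Groth.Agent.ExpSeq.Deform
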