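import Groth.Agent.ExpSeq.DeformArt

/-!
# Roots of invertible classes along thickenings with invertible index
-/

set_option autoImplicit false
set_option backward.isDefEq.respectTransparency false
set_option backward.isDefEq.respectTransparency.types false
set_option linter.style.haveILetI false
set_option maxHeartbeats 1000000

universe u

open CategoryTheory CategoryTheory.Limits CategoryTheory.Abelian AlgebraicGeometry TopologicalSpace Opposite
open Groth.Agent.ZarPicLib (sec rr oval oval_rr oval_injective)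
open Groth.Agent.QC (resO)
open PicGrp

noncomputable section

namespace Groth.Agent.ExpSeq.Deform

section gen

variable {T : TopCat.{u}}

theorem comp_nsmul_id (K : CohTop.Ab T) (q n : ℕ) (z : CohTop.H K q) :
    Ext.comp z (Ext.mk₀ (n • 𝟙 K)) (add_zero q) = n • z := by
  induction n with
  | zero => rw [zero_smul, zero_smul, Ext.mk₀_zero, Ext.comp_zero]
  | succ n ih => rw [succ_nsmul, succ_nsmul, Ext.mk₀_add, Ext.comp_add, ih, Ext.comp_mk₀_id]

theorem comp_bijective {K L : CohTop.Ab T} (φ : K ⟶ L) [IsIso φ] (q : ℕ) :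
    Function.Bijective (fun z : CohTop.H K q => Ext.comp z (Ext.mk₀ φ) (add_zero q)) := by
  refine Function.bijective_iff_has_inverse.2 ⟨fun z => Ext.comp z (Ext.mk₀ (inv φ)) (add_zero q), fun z => ?_, fun z => ?_⟩
  · change Ext.comp (Ext.comp z (Ext.mk₀ φ) (add_zero q)) (Ext.mk₀ (inv φ)) (add_zero q) = z
    rw [Ext.comp_assoc_of_second_deg_zero, Ext.mk₀_comp_mk₀, IsIso.hom_inv_id, Ext.comp_mk₀_id]
  · change Ext.comp (Ext.comp z (Ext.mk₀ (inv φ)) (add_zero q)) (Ext.mk₀ φ) (add_zero q) = z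
    rw [Ext.comp_assoc_of_second_deg_zero, Ext.mk₀_comp_mk₀, IsIso.inv_hom_id, Ext.comp_mk₀_id]

theorem eq_zero_of_nsmul (K : CohTop.Ab T) (q n : ℕ) [IsIso (n • 𝟙 K)] {z : CohTop.H K q} (h : n • z = 0) : z = 0 := by
  obtain ⟨hinj, -⟩ := comp_bijective (T := T) (n • 𝟙 K) q
  refine hinj ?_
  change Ext.comp z (Ext.mk₀ (n • 𝟙 K)) (add_zero q) = Ext.comp (0 : CohTop.H K q) (Ext.mk₀ (n • 𝟙 K)) (add_zero q)
  rw [comp_nsmul_id K q n z, h, Ext.zero_comp]

theorem exists_nsmul_eq (K : CohTop.Ab T) (q n : ℕ) [IsIso (n • 𝟙 K)] (z : CohTop.H K q) : ∃ w, n • w = z := by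
  obtain ⟨w, hw⟩ := (comp_bijective (T := T) (n • 𝟙 K) q).2 z
  exact ⟨w, (comp_nsmul_id K q n w).symm.trans hw⟩

variable {S : ShortComplex (CohTop.Ab T)}

/-- dividing a class by `n` along a sequence whose kernel is uniquely divisible -/
theorem exists_div (hS : S.ShortExact) (n : ℕ) [IsIso (n • 𝟙 S.X₁)] (x : CohTop.H S.X₂ 1) (y : CohTop.H S.X₃ 1)
    (hy : n • y = Ext.comp x (Ext.mk₀ S.g) (add_zero 1)) : ∃ m : CohTop.H S.X₂ 1, n • m = x := by
  let g : CohTop.H S.X₂ 1 →+ CohTop.H S.X₃ 1 := (Ext.mk₀ S.g).postcomp _ (add_zero 1)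
  let d : CohTop.H S.X₃ 1 →+ CohTop.H S.X₁ 2 := hS.extClass.postcomp _ rfl
  let f : CohTop.H S.X₁ 1 →+ CohTop.H S.X₂ 1 := (Ext.mk₀ S.f).postcomp _ (add_zero 1)
  have hdg : d (g x) = 0 := by
    change Ext.comp (Ext.comp x (Ext.mk₀ S.g) (add_zero 1)) hS.extClass rfl = 0
    rw [Ext.comp_assoc_of_second_deg_zero, hS.comp_extClass, Ext.comp_zero]
  have hy' : n • y = g x := hy
  have h0 : d y = 0 := eq_zero_of_nsmul S.X₁ 2 n (by rw [← map_nsmul, hy', hdg])
  obtain ⟨m, hm⟩ := Ext.covariant_sequence_exact₃ _ hS y rfl h0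
  have hgm : g m = y := hm
  have hk : g (x - n • m) = 0 := by rw [map_sub, map_nsmul, hgm, hy', sub_self]
  obtain ⟨k, hk'⟩ := Ext.covariant_sequence_exact₂ _ hS (x - n • m) hk
  obtain ⟨k', hk''⟩ := exists_nsmul_eq S.X₁ 1 n k
  have hfk : f k = x - n • m := hk'
  have hk2 : n • k' = k := hk''
  refine ⟨m + f k', ?_⟩
  rw [smul_add, ← map_nsmul, hk2, hfk, add_sub_cancel]

/-- transport of a division through an identification with classes -/
theorem exists_pow_eq_of {P Q : Type (u + 1)} {H : Type u} [CommGroup P] [CommGroup Q] [AddCommGroup H]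
    {H' : Type u} [AddCommGroup H'] (Ψ : Additive P ≃+ H) (Φ : Additive Q ≃+ H') (π : P →* Q) (g : H → H')
    (hg : ∀ c, g (Ψ (Additive.ofMul c)) = Φ (Additive.ofMul (π c))) (n : ℕ)
    (key : ∀ (x : H) (y : H'), n • y = g x → ∃ m, n • m = x) (c : P) (d : Q) (hd : d ^ n = π c) :
    ∃ e, e ^ n = c := by
  obtain ⟨m, hm⟩ := key (Ψ (Additive.ofMul c)) (Φ (Additive.ofMul d)) (by rw [hg, ← hd, ofMul_pow, map_nsmul])
  obtain ⟨e, rfl⟩ := Ψ.surjective m
  refine ⟨e.toMul, Additive.ofMul.injective (Ψ.injective ?_)⟩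
  rw [ofMul_pow, ofMul_toMul, map_nsmul, hm]

end gen

variable {Y R : Scheme.{u}} (j : R ⟶ Y) [IsClosedImmersion j]

/-- an invertible index acts invertibly on the kernel of restriction along a square-zero thickening -/
theorem isIso_nsmul (hj : IsHomeomorph j.base) (n : ℕ) (hn : ∀ U : Y.Opens, IsUnit (n : Γ(Y, U)))
    (hsq : ∀ (U : Y.Opens), IsAffineOpen U → ∀ z : Γ(Y, U), j.app U z = 0 → z * z = 0) :
    IsIso (n • 𝟙 (kernel (UnitsSh.comap j))) := by
  have hnil : ∀ (U : Y.Opens), IsAffineOpen U → ∀ z : Γ(Y, U), j.app U z = 0 → IsNilpotent z :=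
    fun U hU z hz => ⟨2, by rw [pow_two]; exact hsq U hU z hz⟩
  have hpow : ∀ {S : Type u} [CommRing S] (e : S), e * e = 0 → ∀ k : ℕ, (1 + e) ^ k = 1 + (k : S) * e := by
    intro S _ e he k
    induction k with
    | zero => rw [pow_zero, Nat.cast_zero, zero_mul, add_zero]
    | succ k ih => rw [pow_succ, ih, Nat.cast_succ]; linear_combination (k : S) * he
  letI := W7Cube.law Y
  letI := W7Cube.law R
  obtain ⟨v, hv, hve⟩ := ThickPic.exists_powMap j hj hnil j hj n hnil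
    (fun U z _ hz => by rw [map_pow, hz, one_pow])
    (fun U hU z hz => by
      obtain ⟨v, hv⟩ := hn U
      have h0 : j.app U (z - 1) = 0 := by rw [map_sub, hz, map_one, sub_self]
      have hsq' : ((v⁻¹ : Γ(Y, U)ˣ) : Γ(Y, U)) * (z - 1) * (((v⁻¹ : Γ(Y, U)ˣ) : Γ(Y, U)) * (z - 1)) = 0 := by
        linear_combination (((v⁻¹ : Γ(Y, U)ˣ) : Γ(Y, U)) * ((v⁻¹ : Γ(Y, U)ˣ) : Γ(Y, U))) * hsq U hU _ h0
      refine ⟨1 + ((v⁻¹ : Γ(Y, U)ˣ) : Γ(Y, U)) * (z - 1), by rw [map_add, map_one, map_mul, h0, mul_zero, add_zero], ?_⟩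
      rw [hpow _ hsq', ← hv, ← mul_assoc, Units.mul_inv, one_mul, add_sub_cancel])
  have hve' : v = n • 𝟙 (kernel (UnitsSh.comap j)) := by
    rw [← cancel_mono (kernel.ι (UnitsSh.comap j)), hv, Preadditive.nsmul_comp, Category.id_comp]
  subst hve'
  haveI := hve
  haveI : Mono (n • 𝟙 (kernel (UnitsSh.comap j))) := by
    refine (sheafToPresheaf _ _).mono_of_mono_map ?_
    haveI : ∀ U, Mono ((n • 𝟙 (kernel (UnitsSh.comap j))).hom.app U) := fun U => by
      rw [AddCommGrpCat.mono_iff_injective, injective_iff_map_eq_zero]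
      intro t ht
      have hS := ThickPic.kerSeq_shortExact j hj hnil
      refine ZarPicLib.f_injective hS U.unop (oval_injective ?_)
      rw [map_zero]
      refine TopCat.Presheaf.IsSheaf.section_ext Y.sheaf.2 fun x hx => ?_
      obtain ⟨W, hW, hxW, hWU⟩ := exists_isAffineOpen_mem_and_subset (X := Y) (x := x) (U := U.unop) hx
      refine ⟨W, hWU, hxW, ?_⟩
      let z : Γ(Y, U.unop) := oval ((kernel.ι (UnitsSh.comap j)).hom.app U t)
      change resO Y hWU z = resO Y hWU 1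
      have hz : j.app U.unop z = 1 := (ThickPic.comap_eq_zero_iff j _).1 (ZarPicLib.g_f (S := ThickPic.kerSeq j) t)
      have hzn : z ^ n = 1 := by
        have h1 := congrArg (fun s => oval ((kernel.ι (UnitsSh.comap j)).hom.app U s)) ht
        have h2 : (n • 𝟙 (kernel (UnitsSh.comap j))).hom.app U t = n • t := ThickPic.nsmul_app (𝟙 _) n U.unop t
        simp only [h2, map_nsmul, map_zero] at h1
        exact (ThickPic.oval_nsmul n _).symm.trans (h1.trans (ZarPicLib.oval_zero U.unop))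
      have h0 : j.app W (resO Y hWU z - 1) = 0 := by
        rw [map_sub, ← resO_app j hWU, hz, map_one, map_one, sub_self]
      have h := hpow _ (hsq W hW _ h0) n
      rw [add_sub_cancel, ← map_pow, hzn, map_one, left_eq_add] at h
      rw [map_one]
      exact sub_eq_zero.1 ((hn W).mul_right_eq_zero.1 h)
    exact @NatTrans.mono_of_mono_app _ _ _ _ _ _ (n • 𝟙 (kernel (UnitsSh.comap j))).hom this
  exact isIso_of_mono_of_epi _

/-- roots lift along square-zero thickenings -/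
theorem exists_root_lift [Law Y] [Law R] (hm : PullMul j) (hj : IsHomeomorph j.base) (n : ℕ)
    (hn : ∀ U : Y.Opens, IsUnit (n : Γ(Y, U)))
    (hsq : ∀ (U : Y.Opens), IsAffineOpen U → ∀ z : Γ(Y, U), j.app U z = 0 → z * z = 0)
    (c : PicLoc.PicSet Y) (d : PicLoc.PicSet R) (hd : d ^ n = pullHom j hm c) : ∃ e, e ^ n = c := by
  have hnil : ∀ (U : Y.Opens), IsAffineOpen U → ∀ z : Γ(Y, U), j.app U z = 0 → IsNilpotent z :=
    fun U hU z hz => ⟨2, by rw [pow_two]; exact hsq U hU z hz⟩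
  haveI : IsIso (n • 𝟙 (ThickPic.kerSeq j).X₁) := isIso_nsmul j hj n hn hsq
  obtain ⟨ΨR, hΨ⟩ := ThickPic.exists_picEquiv_compat j hj hm
  exact exists_pow_eq_of (ThickPic.picH1 Y) ΨR (pullHom j hm)
    (fun x : CohTop.H (UnitsSh.unitsAb Y) 1 => Ext.comp x (Ext.mk₀ (ThickPic.kerSeq j).g) (add_zero 1)) hΨ n
    (fun x y hxy => exists_div (ThickPic.kerSeq_shortExact j hj hnil) n x y hxy) c d hd

end Groth.Agent.ExpSeq.Deform
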