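import Groth.Agent.ExpSeq.Seq
import Mathlib.RingTheory.DualNumber
import Mathlib.AlgebraicGeometry.Morphisms.ClosedImmersion
import Mathlib.AlgebraicGeometry.Morphisms.UnderlyingMap

/-!
# Base change to the dual numbers as a thickening
-/

set_option autoImplicit false
set_option backward.isDefEq.respectTransparency false
set_option backward.isDefEq.respectTransparency.types false
set_option linter.style.haveILetI false
set_option maxHeartbeats 1000000

universe u

open CategoryTheory CategoryTheory.Limits AlgebraicGeometry TopologicalSpace Opposite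
open Groth.Agent.QC (resO resO_resO)
open Groth.Agent.ZarPicLib (sec rr)

noncomputable section

namespace Groth.Agent.ExpSeq

/-- A ring which is a pushout of `A ← k → k[ε]` is freely generated over `A` by `1` and `ε`. -/
theorem bijective_of_isPushout {k : Type u} [CommRing k] {A B : CommRingCat.{u}}
    {a : CommRingCat.of k ⟶ A} {p : A ⟶ B} {q : CommRingCat.of (DualNumber k) ⟶ B}
    (h : IsPushout a (CommRingCat.ofHom (algebraMap k (DualNumber k))) p q) :
    Function.Bijective fun z : A × A => p z.1 + q DualNumber.eps * p z.2 := by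
  letI := a.hom.toAlgebra
  let E : DualNumber k →ₐ[k] DualNumber A :=
    DualNumber.lift ⟨((Algebra.ofId k (DualNumber A)), DualNumber.eps), DualNumber.eps_mul_eps, fun _ => Commute.all _ _⟩
  have hEε : E DualNumber.eps = DualNumber.eps := DualNumber.lift_apply_eps _
  have hw : a ≫ CommRingCat.ofHom (TrivSqZeroExt.inlHom A A) =
      CommRingCat.ofHom (algebraMap k (DualNumber k)) ≫ CommRingCat.ofHom E.toRingHom :=
    CommRingCat.hom_ext (RingHom.ext fun c => (E.commutes c).symm)
  let e : B ⟶ CommRingCat.of (DualNumber A) :=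
    h.desc (CommRingCat.ofHom (TrivSqZeroExt.inlHom A A)) (CommRingCat.ofHom E.toRingHom) hw
  have hep : ∀ x, e (p x) = TrivSqZeroExt.inl x := fun x => ConcreteCategory.congr_hom (h.inl_desc _ _ hw) x
  have heq : ∀ x, e (q x) = E x := fun x => ConcreteCategory.congr_hom (h.inr_desc _ _ hw) x
  letI := p.hom.toAlgebra
  have hsq : (q.hom DualNumber.eps : B) * q.hom DualNumber.eps = 0 := by
    rw [← map_mul, DualNumber.eps_mul_eps, map_zero]
  let l : DualNumber A →ₐ[A] B :=
    DualNumber.lift ⟨((Algebra.ofId A B), q DualNumber.eps), hsq, fun _ => Commute.all _ _⟩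
  have hl : ∀ z : DualNumber A, l z = p z.fst + q DualNumber.eps * p z.snd := fun z => by
    change p z.fst + p z.snd * q DualNumber.eps = _
    rw [_root_.mul_comm]
  have hle : e ≫ CommRingCat.ofHom l.toRingHom = 𝟙 B := by
    apply h.hom_ext
    · refine CommRingCat.hom_ext (RingHom.ext fun x => ?_)
      change l (e (p x)) = p x
      rw [hep, hl, TrivSqZeroExt.fst_inl, TrivSqZeroExt.snd_inl, map_zero, mul_zero, add_zero]
    · refine CommRingCat.hom_ext (RingHom.ext fun x => ?_)
      change l (e (q x)) = q x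
      have hx : x = algebraMap k _ x.fst + algebraMap k _ x.snd * DualNumber.eps := by
        refine TrivSqZeroExt.ext ?_ ?_ <;> simp [TrivSqZeroExt.algebraMap_eq_inl]
      rw [hx]
      simp only [map_add, map_mul]
      have hc : ∀ c : k, l (e (q (algebraMap k (DualNumber k) c))) = q (algebraMap k (DualNumber k) c) := fun c => by
        have hw2 : q (algebraMap k (DualNumber k) c) = p (a c) := (ConcreteCategory.congr_hom h.w c).symm
        rw [hw2, hep, hl, TrivSqZeroExt.fst_inl, TrivSqZeroExt.snd_inl, map_zero, mul_zero, add_zero]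
      rw [hc, hc, heq, hEε]
      congr 1
      congr 1
      rw [hl, DualNumber.fst_eps, DualNumber.snd_eps, map_zero, map_one, zero_add, _root_.mul_one]
  refine ⟨fun z z' hz => ?_, fun x => ⟨((e x).fst, (e x).snd), ?_⟩⟩
  · have key : ∀ w : A × A, e (p w.1 + q DualNumber.eps * p w.2) =
        TrivSqZeroExt.inl w.1 + DualNumber.eps * TrivSqZeroExt.inl w.2 := fun w => by
      rw [map_add, map_mul, hep, hep, heq, hEε]
    have h2 := (key z).symm.trans ((congrArg e hz).trans (key z'))
    refine Prod.ext ?_ ?_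
    · simpa using congrArg TrivSqZeroExt.fst h2
    · simpa using congrArg TrivSqZeroExt.snd h2
  · exact (hl (e x)).symm.trans (ConcreteCategory.congr_hom hle x)

section

variable (k : Type u) [Field k]

/-- the structure map of the dual numbers -/
abbrev dnMap : Spec (CommRingCat.of (DualNumber k)) ⟶ Spec (CommRingCat.of k) :=
  Spec.map (CommRingCat.ofHom (algebraMap k (DualNumber k)))

/-- the closed point of the dual numbers -/
abbrev dnPoint : Spec (CommRingCat.of k) ⟶ Spec (CommRingCat.of (DualNumber k)) :=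
  Spec.map (CommRingCat.ofHom (TrivSqZeroExt.fstHom k k k).toRingHom)

theorem dnPoint_dnMap : dnPoint k ≫ dnMap k = 𝟙 _ := by
  rw [← Spec.map_comp, ← Spec.map_id]
  congr 1

instance : Subsingleton (PrimeSpectrum (DualNumber k)) := by
  refine ⟨fun x y => PrimeSpectrum.ext ?_⟩
  have key : ∀ z : PrimeSpectrum (DualNumber k), z.asIdeal = RingHom.ker (TrivSqZeroExt.fstHom k k k).toRingHom :=
    fun z => by
      have hmax : (RingHom.ker (TrivSqZeroExt.fstHom k k k).toRingHom).IsMaximal :=
        RingHom.ker_isMaximal_of_surjective _ fun c => ⟨TrivSqZeroExt.inl c, rfl⟩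
      refine (hmax.eq_of_le z.isPrime.ne_top fun t ht => ?_).symm
      refine z.isPrime.mem_of_pow_mem 2 ?_
      have hz : t ^ 2 = 0 := by
        have h0 : t.fst = 0 := ht
        refine TrivSqZeroExt.ext ?_ ?_ <;> simp [pow_two, h0]
      rw [hz]
      exact Ideal.zero_mem _
  rw [key, key]

instance : IsClosedImmersion (dnPoint k) :=
  IsClosedImmersion.spec_of_surjective _ fun c => ⟨TrivSqZeroExt.inl c, rfl⟩

instance : Surjective (dnPoint k) := by
  refine ⟨fun y => ⟨Classical.arbitrary _, ?_⟩⟩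
  exact Subsingleton.elim (α := PrimeSpectrum (DualNumber k)) _ _

variable {k} (X : Scheme.{u}) [X.Over (Spec (CommRingCat.of k))]

variable (k) in
/-- base change to the dual numbers -/
abbrev Xε : Scheme.{u} := pullback (X ↘ Spec (CommRingCat.of k)) (dnMap k)

variable (k) in
/-- the zero section -/
def sect : X ⟶ Xε k X :=
  pullback.lift (𝟙 X) ((X ↘ Spec (CommRingCat.of k)) ≫ dnPoint k) (by
    rw [Category.id_comp, Category.assoc, dnPoint_dnMap, Category.comp_id])

theorem sect_fst : sect k X ≫ pullback.fst _ _ = 𝟙 X := pullback.lift_fst _ _ _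

theorem isPullback_sect :
    IsPullback (X ↘ Spec (CommRingCat.of k)) (sect k X) (dnPoint k) (pullback.snd _ _) := by
  refine IsPullback.of_bot ?_ (pullback.lift_snd _ _ _).symm (IsPullback.of_hasPullback _ (dnMap k)).flip
  rw [sect_fst, dnPoint_dnMap]
  exact IsPullback.of_vert_isIso ⟨by simp⟩

instance : IsClosedImmersion (sect k X) :=
  MorphismProperty.of_isPullback (isPullback_sect X) (inferInstanceAs (IsClosedImmersion (dnPoint k)))

instance : Surjective (sect k X) :=
  MorphismProperty.of_isPullback (isPullback_sect X) (inferInstanceAs (Surjective (dnPoint k)))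

theorem isHomeomorph_sect : IsHomeomorph (sect k X).base :=
  isHomeomorph_iff_isEmbedding_surjective.2
    ⟨(sect k X).isClosedEmbedding.isEmbedding, (sect k X).surjective⟩

variable (k) in
/-- `ε` as a function -/
def epsTop : Γ(Xε k X, ⊤) :=
  (pullback.snd (X ↘ Spec (CommRingCat.of k)) (dnMap k)).appTop
    ((Scheme.ΓSpecIso (CommRingCat.of (DualNumber k))).inv DualNumber.eps)

variable (k) in
/-- `ε` on an open -/
def epsOn (U : (Xε k X).Opens) : Γ(Xε k X, U) := resO _ le_top (epsTop k X)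

theorem epsOn_res {U V : (Xε k X).Opens} (h : V ≤ U) : resO _ h (epsOn k X U) = epsOn k X V := resO_resO _ _ _

theorem epsOn_sq (U : (Xε k X).Opens) : epsOn k X U * epsOn k X U = 0 := by
  rw [epsOn, epsTop, ← map_mul, ← map_mul, ← map_mul, DualNumber.eps_mul_eps, map_zero, map_zero, map_zero]

theorem sect_epsTop : (sect k X).appTop (epsTop k X) = 0 := by
  change ((pullback.snd (X ↘ Spec (CommRingCat.of k)) (dnMap k)).appTop ≫ (sect k X).appTop) _ = 0
  rw [← Scheme.Hom.comp_appTop, sect, pullback.lift_snd, Scheme.Hom.comp_appTop]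
  change (X ↘ Spec (CommRingCat.of k)).appTop ((dnPoint k).appTop ((Scheme.ΓSpecIso _).inv DualNumber.eps)) = 0
  have h : (Scheme.ΓSpecIso (CommRingCat.of (DualNumber k))).inv ≫ (dnPoint k).appTop =
      CommRingCat.ofHom (TrivSqZeroExt.fstHom k k k).toRingHom ≫ (Scheme.ΓSpecIso (CommRingCat.of k)).inv :=
    (Scheme.ΓSpecIso_inv_naturality _).symm
  rw [show (dnPoint k).appTop ((Scheme.ΓSpecIso _).inv DualNumber.eps) =
    (Scheme.ΓSpecIso (CommRingCat.of k)).inv ((TrivSqZeroExt.fstHom k k k) DualNumber.eps) from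
    ConcreteCategory.congr_hom h DualNumber.eps]
  rw [show (TrivSqZeroExt.fstHom k k k) DualNumber.eps = 0 from DualNumber.fst_eps, map_zero, map_zero]

theorem sect_epsOn (U : (Xε k X).Opens) : (sect k X).app U (epsOn k X U) = 0 := by
  rw [show (sect k X).app U (epsOn k X U) = resO X ((sect k X).preimage_mono le_top) ((sect k X).appTop (epsTop k X))
    from ConcreteCategory.congr_hom ((sect k X).naturality (homOfLE (le_top : U ≤ ⊤)).op) _,
    sect_epsTop, map_zero]

theorem le_preimage_sect (U : (Xε k X).Opens) : U ≤ (pullback.fst (X ↘ Spec (CommRingCat.of k)) (dnMap k) : Xε k X ⟶ X) ⁻¹ᵁ (sect k X ⁻¹ᵁ U) :=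
  le_of_preimage_le (isHomeomorph_sect (k := k) X) fun x hx => by
    change sect k X ((sect k X ≫ (pullback.fst (X ↘ Spec (CommRingCat.of k)) (dnMap k) : Xε k X ⟶ X)) x) ∈ U
    rw [sect_fst]
    exact hx

variable (k) in
/-- pulling functions back -/
def pj (U : (Xε k X).Opens) : Γ(X, sect k X ⁻¹ᵁ U) →+* Γ(Xε k X, U) :=
  ((pullback.fst (X ↘ Spec (CommRingCat.of k)) (dnMap k)).appLE (sect k X ⁻¹ᵁ U) U (le_preimage_sect X U)).hom

theorem sect_pj (U : (Xε k X).Opens) (r : Γ(X, sect k X ⁻¹ᵁ U)) : (sect k X).app U (pj k X U r) = r := by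
  have h : (pullback.fst (X ↘ Spec (CommRingCat.of k)) (dnMap k)).appLE (sect k X ⁻¹ᵁ U) U (le_preimage_sect X U) ≫
      (sect k X).app U = 𝟙 _ := by
    rw [Scheme.Hom.app_eq_appLE, Scheme.Hom.appLE_comp_appLE]
    have e : ∀ (f : X ⟶ X) (hf : f = 𝟙 X) (he : sect k X ⁻¹ᵁ U ≤ f ⁻¹ᵁ (sect k X ⁻¹ᵁ U)),
        f.appLE (sect k X ⁻¹ᵁ U) (sect k X ⁻¹ᵁ U) he = 𝟙 _ := by
      rintro f rfl he
      simp [Scheme.Hom.appLE]
      exact X.presheaf.map_id _
    exact e _ (sect_fst X) _
  exact ConcreteCategory.congr_hom h r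

theorem pj_res {U V : (Xε k X).Opens} (h : V ≤ U) (r : Γ(X, sect k X ⁻¹ᵁ U)) :
    resO _ h (pj k X U r) = pj k X V (resO X ((sect k X).preimage_mono h) r) := by
  have e1 := (pullback.fst (X ↘ Spec (CommRingCat.of k)) (dnMap k)).appLE_map (le_preimage_sect X U) (homOfLE h).op
  have e2 := (pullback.fst (X ↘ Spec (CommRingCat.of k)) (dnMap k)).map_appLE (le_preimage_sect X V)
    (homOfLE ((sect k X).preimage_mono h)).op
  exact ConcreteCategory.congr_hom (e1.trans e2.symm) r

theorem bijective_sum {U : (Xε k X).Opens} (hU : IsAffineOpen (sect k X ⁻¹ᵁ U)) :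
    Function.Bijective fun z : Γ(X, sect k X ⁻¹ᵁ U) × Γ(X, sect k X ⁻¹ᵁ U) =>
      pj k X U z.1 + epsOn k X U * pj k X U z.2 := by
  let p := pullback.fst (X ↘ Spec (CommRingCat.of k)) (dnMap k)
  let q := pullback.snd (X ↘ Spec (CommRingCat.of k)) (dnMap k)
  let V := sect k X ⁻¹ᵁ U
  have hUV : U = p ⁻¹ᵁ V ⊓ q ⁻¹ᵁ ⊤ :=
    le_antisymm (le_inf (le_preimage_sect X U) le_top) (inf_le_left.trans
      (le_of_preimage_le (isHomeomorph_sect (k := k) X) fun x hx => by
        change (sect k X ≫ p) x ∈ V at hx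
        rw [sect_fst] at hx
        exact hx))
  have hP := (isIso_pushoutSection_iff (IsPullback.of_hasPullback (X ↘ Spec (CommRingCat.of k)) (dnMap k))
    (US := ⊤) (UT := ⊤) (UX := V) le_top le_top hUV).1
    (isIso_pushoutSection_of_isAffineOpen (IsPullback.of_hasPullback (X ↘ Spec (CommRingCat.of k)) (dnMap k))
      (US := ⊤) (UT := ⊤) (UX := V) le_top le_top hUV (isAffineOpen_top _) (isAffineOpen_top _) hU)
  have hP' : IsPushout ((Scheme.ΓSpecIso (CommRingCat.of k)).inv ≫ (X ↘ Spec (CommRingCat.of k)).appLE ⊤ V le_top)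
      (CommRingCat.ofHom (algebraMap k (DualNumber k))) (p.appLE V U (le_preimage_sect X U))
      ((Scheme.ΓSpecIso (CommRingCat.of (DualNumber k))).inv ≫ q.appLE ⊤ U le_top) := by
    refine hP.of_iso (Scheme.ΓSpecIso _) (Iso.refl _) (Scheme.ΓSpecIso _) (Iso.refl _) ?_ ?_ ?_ ?_
    · simp
    · rw [← Scheme.ΓSpecIso_naturality]
      simp [Scheme.Hom.appLE]
    · simp [p]
    · simp [q]
  have hb := bijective_of_isPushout hP'
  have he : epsOn k X U = (((Scheme.ΓSpecIso (CommRingCat.of (DualNumber k))).inv ≫ q.appLE ⊤ U le_top) DualNumber.eps) := rfl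
  convert hb using 1
  funext z
  rw [he]
  rfl

variable (k) in
/-- multiplication by `ε` -/
def mulEps (U : (Xε k X).Opens) : Γ(X, sect k X ⁻¹ᵁ U) →+ Γ(Xε k X, U) :=
  (AddMonoidHom.mulLeft (epsOn k X U)).comp (pj k X U).toAddMonoidHom

theorem mulEps_apply (U : (Xε k X).Opens) (r) : mulEps k X U r = epsOn k X U * pj k X U r := rfl

theorem mulEps_res {U V : (Xε k X).Opens} (h : V ≤ U) (r : Γ(X, sect k X ⁻¹ᵁ U)) :
    resO _ h (mulEps k X U r) = mulEps k X V (resO X ((sect k X).preimage_mono h) r) := by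
  rw [mulEps_apply, mulEps_apply, map_mul, epsOn_res, pj_res]

theorem exists_affine_nhd {U : (Xε k X).Opens} {z : Xε k X} (hz : z ∈ U) :
    ∃ (W : (Xε k X).Opens), W ≤ U ∧ z ∈ W ∧ IsAffineOpen (sect k X ⁻¹ᵁ W) := by
  obtain ⟨x, rfl⟩ := (isHomeomorph_sect (k := k) X).surjective z
  obtain ⟨V, hV, hxV, hle⟩ := exists_isAffineOpen_mem_and_subset (X := X) (x := x) (U := sect k X ⁻¹ᵁ U) hz
  obtain ⟨W, hW⟩ := exists_preimage_open (isHomeomorph_sect (k := k) X) V
  subst hW
  exact ⟨W, le_of_preimage_le (isHomeomorph_sect (k := k) X) hle, hxV, hV⟩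

theorem mulEps_injective (U : (Xε k X).Opens) : Function.Injective (mulEps k X U) := by
  rw [injective_iff_map_eq_zero]
  intro r hr
  refine TopCat.Presheaf.IsSheaf.section_ext X.sheaf.2 fun x hx => ?_
  obtain ⟨W, hWU, hxW, hW⟩ := exists_affine_nhd X (U := U) (z := sect k X x) hx
  have h0 : mulEps k X W (resO X ((sect k X).preimage_mono hWU) r) = 0 := by rw [← mulEps_res X hWU, hr, map_zero]
  have h1 := (bijective_sum X hW).1 (a₁ := (0, resO X ((sect k X).preimage_mono hWU) r)) (a₂ := (0, 0)) (by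
    simp only [map_zero, mul_zero, add_zero, zero_add]
    exact h0)
  refine ⟨sect k X ⁻¹ᵁ W, (sect k X).preimage_mono hWU, hxW, ?_⟩
  exact (congrArg Prod.snd h1).trans (map_zero (resO X ((sect k X).preimage_mono hWU))).symm

theorem exists_mulEps {U : (Xε k X).Opens} {t : Γ(Xε k X, U)} (ht : (sect k X).app U t = 0) :
    ∃ r, mulEps k X U r = t := by
  have hloc : ∀ x : (sect k X ⁻¹ᵁ U : X.Opens), ∃ (W : (Xε k X).Opens) (hWU : W ≤ U)
      (b : Γ(X, sect k X ⁻¹ᵁ W)), sect k X x.1 ∈ W ∧ mulEps k X W b = resO _ hWU t := fun x => by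
    obtain ⟨W, hWU, hxW, hW⟩ := exists_affine_nhd X (U := U) (z := sect k X x.1) x.2
    obtain ⟨⟨a, b⟩, hab⟩ := (bijective_sum X hW).2 (resO _ hWU t)
    have h0 : (sect k X).app W (resO _ hWU t) = 0 := by
      refine (ConcreteCategory.congr_hom ((sect k X).naturality (homOfLE hWU).op) t).trans ?_
      change resO X _ ((sect k X).app U t) = 0
      rw [ht, map_zero]
    have ha : a = 0 := by
      have h := congrArg ((sect k X).app W) hab
      rw [h0] at h
      simp only [map_add, map_mul, sect_pj, sect_epsOn, zero_mul, add_zero] at h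
      exact h
    refine ⟨W, hWU, b, hxW, ?_⟩
    rw [← hab, ha]
    simp only [map_zero, zero_add, mulEps_apply]
  choose W hWU b hxW hb using hloc
  obtain ⟨r, hr, -⟩ := TopCat.Sheaf.existsUnique_gluing' X.sheaf (fun x => sect k X ⁻¹ᵁ W x) (sect k X ⁻¹ᵁ U)
    (fun x => homOfLE ((sect k X).preimage_mono (hWU x))) (fun y hy => Opens.mem_iSup.mpr ⟨⟨y, hy⟩, hxW ⟨y, hy⟩⟩) b
    (fun x y => by
      apply mulEps_injective X (W x ⊓ W y)
      change mulEps k X _ (resO X ((sect k X).preimage_mono inf_le_left) (b x)) =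
        mulEps k X _ (resO X ((sect k X).preimage_mono inf_le_right) (b y))
      rw [← mulEps_res X (inf_le_left : W x ⊓ W y ≤ W x), ← mulEps_res X (inf_le_right : W x ⊓ W y ≤ W y), hb, hb, resO_resO, resO_resO])
  refine ⟨r, TopCat.Presheaf.IsSheaf.section_ext (Xε k X).sheaf.2 fun z hz => ?_⟩
  obtain ⟨x, rfl⟩ := (isHomeomorph_sect (k := k) X).surjective z
  refine ⟨W ⟨x, hz⟩, hWU _, hxW _, ?_⟩
  change resO _ (hWU ⟨x, hz⟩) (mulEps k X U r) = resO _ (hWU ⟨x, hz⟩) t
  rw [mulEps_res, ← hb]
  exact congrArg _ (hr ⟨x, hz⟩)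

variable (k) in
/-- the thickening `X ⊆ X_ε` -/
def thickDual : Thick (sect k X) ((CohTop.push (sect k X).base).obj (Coh.toAb (Coh.structureModule X))) where
  homeo := isHomeomorph_sect X
  j U := mulEps k X U
  inj := mulEps_injective X
  nat h z := (mulEps_res X h z).symm
  ker U t := ⟨fun ht => exists_mulEps X ht, by
    rintro ⟨r, rfl⟩
    change (sect k X).app U (mulEps k X U r) = 0
    rw [mulEps_apply, map_mul, sect_epsOn, zero_mul]⟩
  sq {U a b} ha hb := by
    obtain ⟨r, rfl⟩ := exists_mulEps X ha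
    obtain ⟨s, rfl⟩ := exists_mulEps X hb
    rw [mulEps_apply, mulEps_apply]
    linear_combination (pj k X U r * pj k X U s) * epsOn_sq X U
  lift U r x hx := ⟨U, le_rfl, pj k X U r, hx, by rw [sect_pj]; exact (Groth.Agent.QC.resO_self _ _).symm⟩

end

end Groth.Agent.ExpSeq
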