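import Groth.Agent.ExpSeq.Homeo
import Groth.Agent.ZarPicLib.Pic
import Groth.Agent.C1Cap.PullGen

/-!
# The Picard group as `H¹` of the units: characterisation and pullbacks
-/

set_option autoImplicit false
set_option backward.isDefEq.respectTransparency false
set_option backward.isDefEq.respectTransparency.types false
set_option linter.style.haveILetI false
set_option maxHeartbeats 1000000

universe u

open CategoryTheory CategoryTheory.Limits CategoryTheory.Abelian AlgebraicGeometry TopologicalSpace Opposite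
open Groth.Agent.SiteCoh (embedSeq embedSeq_shortExact)
open Groth.Agent.ZarPicLib (sec rr oval Dat ιI πQ exists_coeff oval_smul_injective app_rr)
open Groth.Agent.QC (resO)
open ProjMor (eta eta_res eta_smul)
open TMul (IsGen)

noncomputable section

namespace Groth.Agent.ExpSeq

variable {X Z : Scheme.{u}}

/-- `Pic` as a quotient of the sections of the cokernel. -/
theorem exists_picEquiv [PicGrp.Law X] {H : Type u} [AddCommGroup H]
    (d : sec (embedSeq (UnitsSh.unitsAb X)).X₃ ⊤ →+ H) (hd : Function.Surjective d)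
    (hk : ∀ q, d q = 0 ↔ ∃ y, πQ _ y = q) :
    ∃ Ψ : Additive (PicLoc.PicSet X) ≃+ H, ∀ (L : X.Modules) (hL : PicF.IsInvertible L) (q),
      Nonempty (Dat L q) → Ψ (Additive.ofMul (PicGrp.cls L hL)) = d q := by
  have hex : ∀ c : PicLoc.PicSet X, ∃ (L : X.Modules) (hL : PicF.IsInvertible L) (q : _),
      c = PicGrp.cls L hL ∧ Nonempty (Dat L q) := fun c => by
    obtain ⟨L, hL, rfl⟩ := PicGrp.exists_eq_cls c
    obtain ⟨q, hq⟩ := ZarPicLib.exists_dat hL
    exact ⟨L, hL, q, rfl, hq⟩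
  choose L hL q hc hD using hex
  have key : ∀ (c : PicLoc.PicSet X) {M : X.Modules} {q' : _}, c.1 = PicF.cl M → Nonempty (Dat M q') →
      d (q c) = d q' := fun c M q' hM ⟨D'⟩ => by
    obtain ⟨D⟩ := hD c
    have hiso : Nonempty (L c ≅ M) :=
      (PicGrp.cl_eq_cl_iff _ _).1 ((congrArg Subtype.val (hc c)).symm.trans hM)
    obtain ⟨φ⟩ := hiso
    obtain ⟨y, hy⟩ := D.exists_lift D' φ.symm
    rw [← sub_eq_zero, ← map_sub]
    exact (hk _).2 ⟨y, hy⟩
  refine ⟨AddEquiv.ofBijective (AddMonoidHom.mk' (fun c : Additive (PicLoc.PicSet X) => d (q c.toMul))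
    fun a b => ?_) ⟨?_, fun x => ?_⟩, fun L' hL' q' hq' => key _ rfl hq'⟩
  · obtain ⟨D⟩ := hD a.toMul
    obtain ⟨D'⟩ := hD b.toMul
    rw [← map_add]
    refine key _ ?_ (D.nonempty_tensor D')
    rw [toMul_add]
    conv_lhs => rw [hc a.toMul, hc b.toMul]
    exact PicGrp.cls_mul_cls_val _ _
  · rw [injective_iff_map_eq_zero]
    intro c hc0
    obtain ⟨y, hy⟩ := (hk _).1 hc0
    obtain ⟨D⟩ := hD c.toMul
    have h1 : c.toMul = 1 := (hc c.toMul).trans ((PicGrp.cls_eq_one_iff _).2 (D.nonempty_iso y hy))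
    exact Additive.toMul.injective h1
  · obtain ⟨q', rfl⟩ := hd x
    obtain ⟨M, hM, hD'⟩ := ZarPicLib.exists_dat_of_sect q'
    exact ⟨Additive.ofMul (PicGrp.cls M hM), key _ rfl hD'⟩

/-- Data pulls back along a homeomorphism. -/
theorem nonempty_dat_pullback (i : Z ⟶ X) (hi : IsHomeomorph i.base)
    (φ : embedSeq (UnitsSh.unitsAb X) ⟶ (embedSeq (UnitsSh.unitsAb Z)).map (CohTop.push i.base))
    (hφ : φ.τ₁ = UnitsSh.comap i) {L : X.Modules} {q : sec (embedSeq (UnitsSh.unitsAb X)).X₃ ⊤} (D : Dat L q) :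
    Nonempty (Dat ((Scheme.Modules.pullback i).obj L) (φ.τ₃.hom.app (op ⊤) q)) := by
  let S := embedSeq (UnitsSh.unitsAb X)
  let T := (embedSeq (UnitsSh.unitsAb Z)).map (CohTop.push i.base)
  have h23 : ∀ (U : X.Opens) (s : sec S.X₂ U), T.g.hom.app (op U) (φ.τ₂.hom.app (op U) s) = φ.τ₃.hom.app (op U) (πQ U s) :=
    fun U s => ConcreteCategory.congr_hom (NatTrans.congr_app (congrArg (fun e => e.hom) φ.comm₂₃) (op U)) s
  have h12 : ∀ (U : X.Opens) (c : sec (UnitsSh.unitsAb X) U), φ.τ₂.hom.app (op U) (ιI U c) =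
      T.f.hom.app (op U) ((UnitsSh.comap i).hom.app (op U) c) :=
    fun U c => by
      rw [← hφ]
      exact (ConcreteCategory.congr_hom (NatTrans.congr_app (congrArg (fun e => e.hom) φ.comm₁₂) (op U)) c).symm
  refine ⟨⟨D.κ, fun a => i ⁻¹ᵁ D.U a, fun z => D.cov (i z), fun a => eta i L (D.U a) (D.t a),
    fun a => C1Cap.isGen_eta i (D.gen a), fun a => φ.τ₂.hom.app (op (D.U a)) (D.i a), fun a => ?_,
    fun a b O' ha hb c hc => ?_⟩⟩
  · refine (h23 _ (D.i a)).trans ?_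
    rw [D.proj]
    exact app_rr φ.τ₃ (le_top : D.U a ≤ ⊤) q
  · obtain ⟨O, rfl⟩ := exists_preimage_open hi O'
    have ha' : O ≤ D.U a := le_of_preimage_le hi ha
    have hb' : O ≤ D.U b := le_of_preimage_le hi hb
    obtain ⟨c₀, hc₀⟩ := exists_coeff ((D.gen a).res ha') ((D.gen b).res hb')
    have h := congrArg (eta i L O) hc₀
    rw [eta_smul, ← eta_res i L ha', ← eta_res i L hb'] at h
    have hcc : c = (UnitsSh.comap i).hom.app (op O) c₀ :=
      oval_smul_injective ((C1Cap.isGen_eta i (D.gen b)).res _) (hc.symm.trans h)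
    have hr := congrArg (φ.τ₂.hom.app (op O)).hom (D.rel a b O ha' hb' c₀ hc₀)
    rw [map_sub] at hr
    rw [hcc]
    refine Eq.trans ?_ (hr.trans (h12 O c₀))
    exact congrArg₂ (· - ·) (app_rr φ.τ₂ ha' (D.i a)).symm (app_rr φ.τ₂ hb' (D.i b)).symm

/-- The units of a homeomorphic thickening map compatibly to the injective embeddings. -/
theorem exists_lift_comap (i : Z ⟶ X) :
    ∃ φ : embedSeq (UnitsSh.unitsAb X) ⟶ (embedSeq (UnitsSh.unitsAb Z)).map (CohTop.push i.base),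
      φ.τ₁ = UnitsSh.comap i := by
  let S := embedSeq (UnitsSh.unitsAb X)
  let T := (embedSeq (UnitsSh.unitsAb Z)).map (CohTop.push i.base)
  haveI : Injective T.X₂ := S0904.result i.base (embedSeq (UnitsSh.unitsAb Z)).X₂
  have hS := embedSeq_shortExact (UnitsSh.unitsAb X)
  haveI := hS.mono_f
  let ψ : S.X₂ ⟶ T.X₂ := Injective.factorThru (UnitsSh.comap i ≫ T.f) S.f
  have hψ : S.f ≫ ψ = UnitsSh.comap i ≫ T.f := Injective.comp_factorThru _ _
  have h0 : S.f ≫ ψ ≫ T.g = 0 := by rw [← Category.assoc, hψ, Category.assoc, T.zero, comp_zero]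
  exact ⟨⟨UnitsSh.comap i, ψ, cokernel.desc S.f (ψ ≫ T.g) h0, hψ.symm, (cokernel.π_desc S.f (ψ ≫ T.g) h0).symm⟩, rfl⟩

/-- **compatibility of `Pic ≅ H¹(O^×)` with restriction to a homeomorphic subscheme** -/
theorem exists_picEquivs [PicGrp.Law X] [PicGrp.Law Z] (i : Z ⟶ X) (hi : IsHomeomorph i.base)
    (hm : PicGrp.PullMul i) :
    ∃ (ΨX : Additive (PicLoc.PicSet X) ≃+ CohTop.H (UnitsSh.unitsAb X) 1)
      (ΨZ : Additive (PicLoc.PicSet Z) ≃+ CohTop.H ((CohTop.push i.base).obj (UnitsSh.unitsAb Z)) 1),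
      ∀ c : PicLoc.PicSet X, Ext.comp (ΨX (Additive.ofMul c)) (Ext.mk₀ (UnitsSh.comap i)) (add_zero 1) =
        ΨZ (Additive.ofMul (PicGrp.pullHom i hm c)) := by
  obtain ⟨ΨX, hX⟩ := exists_picEquiv (X := X) (ZarPicLib.δ (UnitsSh.unitsAb X))
    (ZarPicLib.δ_surjective (UnitsSh.unitsAb X)) (ZarPicLib.δ_eq_zero_iff (UnitsSh.unitsAb X))
  obtain ⟨ΨZ, hZ⟩ := exists_picEquiv (X := Z) (dlPush hi (UnitsSh.unitsAb Z))
    (dlPush_surjective hi (UnitsSh.unitsAb Z)) (dlPush_eq_zero_iff hi (UnitsSh.unitsAb Z))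
  obtain ⟨φ, hφ⟩ := exists_lift_comap i
  refine ⟨ΨX, ΨZ, fun c => ?_⟩
  obtain ⟨L, hL, rfl⟩ := PicGrp.exists_eq_cls c
  obtain ⟨q, ⟨D⟩⟩ := ZarPicLib.exists_dat hL
  have e1 : ΨX (Additive.ofMul (PicGrp.cls L hL)) = dl (embedSeq_shortExact (UnitsSh.unitsAb X)) q :=
    (hX L hL q ⟨D⟩).trans (DFunLike.congr_fun (δ_eq_dl (UnitsSh.unitsAb X)) q)
  have e2 := hZ _ (PicLoc.isInvertible_pullback i hL) _ (nonempty_dat_pullback i hi φ hφ D)
  rw [e1, PicGrp.pullHom_cls, e2, ← hφ]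
  exact dl_naturality (embedSeq_shortExact (UnitsSh.unitsAb X))
    (T := (embedSeq (UnitsSh.unitsAb Z)).map (CohTop.push i.base))
    (push_shortExact hi (embedSeq_shortExact (UnitsSh.unitsAb Z))) φ q

end Groth.Agent.ExpSeq
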