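import Groth.Agent.ExpSeq.Pic
import Groth.Agent.ThickPic.Basic

/-!
# The units sequence of a square-zero thickening
-/

set_option autoImplicit false
set_option backward.isDefEq.respectTransparency false
set_option backward.isDefEq.respectTransparency.types false
set_option linter.style.haveILetI false
set_option maxHeartbeats 1000000

universe u

open CategoryTheory CategoryTheory.Limits CategoryTheory.Abelian AlgebraicGeometry TopologicalSpace Opposite
open Groth.Agent.ZarPicLib (sec rr oval oval_rr oval_injective app_rr)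
open Groth.Agent.QC (resO)

noncomputable section

namespace Groth.Agent.ExpSeq

variable {X Z : Scheme.{u}}

/-- A square-zero thickening given by a sheaf of kernels. -/
structure Thick (i : Z ⟶ X) (A : CohTop.Ab X.toTopCat) where
  homeo : IsHomeomorph i.base
  j : ∀ U : X.Opens, sec A U →+ Γ(X, U)
  inj : ∀ U, Function.Injective (j U)
  nat : ∀ {U V : X.Opens} (h : V ≤ U) (z : sec A U), j V (rr A h z) = resO X h (j U z)
  ker : ∀ (U : X.Opens) (t : Γ(X, U)), i.app U t = 0 ↔ ∃ z, j U z = t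
  sq : ∀ {U : X.Opens} {a b : Γ(X, U)}, i.app U a = 0 → i.app U b = 0 → a * b = 0
  lift : ∀ (U : X.Opens) (r : Γ(Z, i ⁻¹ᵁ U)) (x : X), x ∈ U → ∃ (W : X.Opens) (hW : W ≤ U) (s : Γ(X, W)),
    x ∈ W ∧ i.app W s = resO Z (i.preimage_mono hW) r

variable {i : Z ⟶ X} {A : CohTop.Ab X.toTopCat}

/-- the unit underlying a section of the pushed units -/
def pU {U : X.Opens} (s : sec ((CohTop.push i.base).obj (UnitsSh.unitsAb Z)) U) : Γ(Z, i ⁻¹ᵁ U)ˣ :=
  UnitsSh.unitOfSect (show sec (UnitsSh.unitsAb Z) (i ⁻¹ᵁ U) from s)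

theorem pU_injective {U : X.Opens} : Function.Injective (pU (i := i) (U := U)) := fun s s' h =>
  (UnitsSh.sectOfUnit_unitOfSect _).symm.trans ((congrArg UnitsSh.sectOfUnit h).trans (UnitsSh.sectOfUnit_unitOfSect _))

/-- transport of an exact sequence through `Additive P ≃+ H` -/
theorem exists_homs {UZ H1A H1B H1C H2A : Type u} {PX PZ : Type (u + 1)} [CommGroup UZ] [AddCommGroup H1A]
    [AddCommGroup H1B] [AddCommGroup H1C] [AddCommGroup H2A] [CommGroup PX] [CommGroup PZ]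
    (e : H1A →+ H1B) (d : UZ → H1A) (g : H1B →+ H1C) (d1 : H1C →+ H2A)
    (ΨX : Additive PX ≃+ H1B) (ΨZ : Additive PZ ≃+ H1C) (P : PX →* PZ)
    (hΨ : ∀ c, g (ΨX (Additive.ofMul c)) = ΨZ (Additive.ofMul (P c)))
    (del0 : UZ →* Multiplicative H1A) (hdel0 : ∀ u, del0 u = Multiplicative.ofAdd (d u))
    (h1 : ∀ x, e x = 0 ↔ ∃ u, d u = x) (h2 : ∀ y, g y = 0 ↔ ∃ x, e x = y)
    (h3 : ∀ y, d1 y = 0 ↔ ∃ z, g z = y) :
    ∃ (α : Multiplicative H1A →* PX) (δ₁ : PZ →* Multiplicative H2A),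
      α.ker = del0.range ∧ P.ker = α.range ∧ δ₁.ker = P.range := by
  let α : Multiplicative H1A →* PX := AddMonoidHom.toMultiplicativeLeft (ΨX.symm.toAddMonoidHom.comp e)
  let δ₁ : PZ →* Multiplicative H2A := AddMonoidHom.toMultiplicativeRight (d1.comp ΨZ.toAddMonoidHom)
  have hα : ∀ x, α x = (ΨX.symm (e x.toAdd)).toMul := fun x => rfl
  have hδ : ∀ c, δ₁ c = Multiplicative.ofAdd (d1 (ΨZ (Additive.ofMul c))) := fun c => rfl
  refine ⟨α, δ₁, Subgroup.ext fun x => ?_, Subgroup.ext fun c => ?_, Subgroup.ext fun c => ?_⟩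
  · rw [MonoidHom.mem_ker, MonoidHom.mem_range, hα, toMul_eq_one, AddEquiv.map_eq_zero_iff, h1]
    simp only [hdel0]
    exact ⟨fun ⟨u, hu⟩ => ⟨u, by rw [hu, ofAdd_toAdd]⟩, fun ⟨u, hu⟩ => ⟨u, by rw [← hu, toAdd_ofAdd]⟩⟩
  · rw [MonoidHom.mem_ker, MonoidHom.mem_range, ← ofMul_eq_zero, ← AddEquiv.map_eq_zero_iff ΨZ, ← hΨ, h2]
    constructor
    · rintro ⟨x, hx⟩
      refine ⟨Multiplicative.ofAdd x, ?_⟩
      rw [hα, toAdd_ofAdd, hx, AddEquiv.symm_apply_apply, toMul_ofMul]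
    · rintro ⟨x, rfl⟩
      exact ⟨x.toAdd, by rw [hα, ofMul_toMul, AddEquiv.apply_symm_apply]⟩
  · rw [MonoidHom.mem_ker, MonoidHom.mem_range, hδ, ofAdd_eq_one, h3]
    constructor
    · rintro ⟨y, hy⟩
      obtain ⟨b, rfl⟩ := ΨX.surjective y
      exact ⟨b.toMul, Additive.ofMul.injective (ΨZ.injective ((hΨ b.toMul).symm.trans hy))⟩
    · rintro ⟨b, rfl⟩
      exact ⟨_, hΨ b⟩

namespace Thick

variable (T : Thick i A)
include T

theorem app_j (U : X.Opens) (z : sec A U) : i.app U (T.j U z) = 0 := (T.ker U _).2 ⟨z, rfl⟩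

theorem j_mul_j (U : X.Opens) (z w : sec A U) : T.j U z * T.j U w = 0 := T.sq (T.app_j U z) (T.app_j U w)

theorem isUnit_of_app {U : X.Opens} {u : Γ(X, U)} (hu : ∃ v, i.app U (u * v) = 1) : IsUnit u := by
  obtain ⟨v, hv⟩ := hu
  have hn : i.app U (u * v - 1) = 0 := by rw [map_sub, hv, map_one, sub_self]
  refine IsUnit.of_mul_eq_one (v * (1 - (u * v - 1))) ?_
  have h2 := T.sq hn hn
  linear_combination -h2

/-- `1 + z` as a unit -/
def onePlus (U : X.Opens) (z : sec A U) : Γ(X, U)ˣ where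
  val := 1 + T.j U z
  inv := 1 - T.j U z
  val_inv := by linear_combination -(T.j_mul_j U z z)
  inv_val := by linear_combination -(T.j_mul_j U z z)

/-- the truncated exponential -/
def expHom : A ⟶ UnitsSh.unitsAb X :=
  ⟨{ app := fun U => AddCommGrpCat.ofHom (AddMonoidHom.mk'
        (fun z => UnitsSh.sectOfUnit (O := X.presheaf) (T.onePlus U.unop z))
        fun z w => oval_injective (by
          rw [ZarPicLib.oval_add]
          change 1 + T.j _ (z + w) = (1 + T.j _ z) * (1 + T.j _ w)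
          rw [map_add]
          linear_combination -(T.j_mul_j U.unop z w)))
     naturality := fun U V g => by
      ext z
      refine oval_injective ?_
      change 1 + T.j V.unop (rr A g.unop.le z) = resO X g.unop.le (1 + T.j U.unop z)
      rw [T.nat, map_add, map_one] }⟩

theorem oval_expHom (U : X.Opens) (z : sec A U) :
    oval (X := X) (T.expHom.hom.app (op U) z) = 1 + T.j U z := rfl

theorem exp_comap : T.expHom ≫ UnitsSh.comap i = 0 := by
  apply Sheaf.hom_ext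
  ext U z
  refine pU_injective (Units.ext ?_)
  change i.app U.unop (1 + T.j U.unop z) = 1
  rw [map_add, map_one, T.app_j, add_zero]

/-- the units sequence -/
abbrev seq : ShortComplex (CohTop.Ab X.toTopCat) := ShortComplex.mk T.expHom (UnitsSh.comap i) T.exp_comap

theorem shortExact : T.seq.ShortExact := by
  refine CurveFF.shortExact_of_sections _ (fun U z w h => T.inj U (add_left_cancel (a := (1 : Γ(X, U))) ?_))
    (fun U s hs => ?_) (fun U s x hx => ?_)
  · exact congrArg (oval (X := X)) h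
  · have h1 : i.app U (oval (X := X) s) = 1 :=
      congrArg (fun e => (pU (i := i) (U := U) e).1) hs
    obtain ⟨z, hz⟩ := (T.ker U (oval (X := X) s - 1)).1 (by rw [map_sub, h1, map_one, sub_self])
    refine ⟨z, oval_injective ?_⟩
    rw [T.oval_expHom, hz]
    ring
  · let r : Γ(Z, i ⁻¹ᵁ U)ˣ := pU s
    obtain ⟨W₁, hW₁, a, hxW₁, ha⟩ := T.lift U r.1 x hx
    obtain ⟨W₂, hW₂, b, hxW₂, hb⟩ := T.lift U r⁻¹.1 x hx
    let W := W₁ ⊓ W₂
    have hres : ∀ {W' : X.Opens} (h : W ≤ W') (c : Γ(X, W')),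
        i.app W (resO X h c) = resO Z (i.preimage_mono h) (i.app W' c) :=
      fun h c => ConcreteCategory.congr_hom (i.naturality (homOfLE h).op) c
    have ha' := (hres (inf_le_left : W ≤ W₁) a).trans (congrArg _ ha)
    have hb' := (hres (inf_le_right : W ≤ W₂) b).trans (congrArg _ hb)
    rw [Groth.Agent.QC.resO_resO] at ha' hb'
    have hu : IsUnit (resO X (inf_le_left : W ≤ W₁) a) := T.isUnit_of_app ⟨resO X (inf_le_right : W ≤ W₂) b, by
      rw [map_mul, ha', hb', ← map_mul, r.mul_inv, map_one]⟩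
    refine ⟨W, inf_le_left.trans hW₁, ⟨hxW₁, hxW₂⟩, UnitsSh.sectOfUnit (O := X.presheaf) hu.unit, ?_⟩
    exact pU_injective (Units.ext ha')

/-- sections of the pushed units from units -/
def ofU (u : Γ(Z, ⊤)ˣ) : sec T.seq.X₃ (⊤ : X.Opens) :=
  (UnitsSh.sectOfUnit (O := Z.presheaf) u : sec (UnitsSh.unitsAb Z) (i ⁻¹ᵁ ⊤))

theorem ofU_mul (u v : Γ(Z, ⊤)ˣ) : T.ofU (u * v) = T.ofU u + T.ofU v := rfl

/-- the units at the global level -/
def expTop : CohTop.H A 0 →+ sec (UnitsSh.unitsAb X) (⊤ : X.Opens) :=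
  (T.expHom.hom.app (op ⊤)).hom.comp (h0 A).toAddMonoidHom

/-- the first map -/
def eps : Multiplicative (CohTop.H A 0) →* (Γ(X, ⊤))ˣ :=
  MonoidHom.mk' (fun x => UnitsSh.unitOfSect (T.expTop x.toAdd)) fun x y => by
    change UnitsSh.unitOfSect (T.expTop (x.toAdd + y.toAdd)) = _
    rw [map_add]
    exact UnitsSh.unitOfSect_add _ _

/-- the first connecting map -/
def del0 : (Γ(Z, ⊤))ˣ →* Multiplicative (CohTop.H A 1) :=
  MonoidHom.mk' (fun u => Multiplicative.ofAdd (dl T.shortExact (T.ofU u))) fun u v => by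
    rw [T.ofU_mul, map_add]
    rfl

/-- the map on `H¹` -/
def expH1 : CohTop.H A 1 →+ CohTop.H (UnitsSh.unitsAb X) 1 := (Ext.mk₀ T.expHom).postcomp _ (add_zero 1)

/-- the second connecting map -/
def del1 : CohTop.H T.seq.X₃ 1 →+ CohTop.H A 2 := T.shortExact.extClass.postcomp _ rfl

theorem eps_injective : Function.Injective T.eps := fun x y h => by
  have h' : T.expTop x.toAdd = T.expTop y.toAdd :=
    (UnitsSh.sectOfUnit_unitOfSect _).symm.trans ((congrArg UnitsSh.sectOfUnit h).trans (UnitsSh.sectOfUnit_unitOfSect _))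
  exact Multiplicative.toAdd.injective ((h0 A).injective (ZarPicLib.f_injective T.shortExact ⊤ h'))

theorem eps_val (x : Multiplicative (CohTop.H A 0)) : (T.eps x).1 = 1 + T.j ⊤ (h0 A x.toAdd) := rfl

theorem ker_res : (Units.map i.appTop.hom.toMonoidHom).ker = T.eps.range := by
  refine Subgroup.ext fun u => ⟨fun hu => ?_, ?_⟩
  · have h1 : i.app ⊤ u.1 = 1 := congrArg Units.val hu
    obtain ⟨z, hz⟩ := (T.ker ⊤ (u.1 - 1)).1 (by rw [map_sub, h1, map_one, sub_self])
    refine ⟨Multiplicative.ofAdd ((h0 A).symm z), Units.ext ?_⟩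
    rw [T.eps_val, toAdd_ofAdd, AddEquiv.apply_symm_apply, hz]
    ring
  · rintro ⟨x, rfl⟩
    refine Units.ext ?_
    change i.app ⊤ (T.eps x).1 = 1
    rw [T.eps_val, map_add, map_one, T.app_j, add_zero]

theorem comap_ofU (v : Γ(X, ⊤)ˣ) : (UnitsSh.comap i).hom.app (op ⊤) (UnitsSh.sectOfUnit (O := X.presheaf) v) =
    T.ofU (Units.map i.appTop.hom.toMonoidHom v) := rfl

theorem pU_ofU (u : Γ(Z, ⊤)ˣ) : pU (i := i) (U := ⊤) (T.ofU u) = u := rfl

theorem ofU_pU (s : sec T.seq.X₃ (⊤ : X.Opens)) : T.ofU (pU (i := i) (U := ⊤) s) = s :=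
  pU_injective (T.pU_ofU (pU (i := i) (U := ⊤) s))

theorem ker_del0 : T.del0.ker = (Units.map i.appTop.hom.toMonoidHom).range := by
  refine Subgroup.ext fun u => ?_
  rw [MonoidHom.mem_ker, MonoidHom.mem_range]
  constructor
  · intro h
    obtain ⟨y, hy⟩ := (dl_eq_zero_iff T.shortExact (T.ofU u)).1 (Multiplicative.ofAdd.injective h)
    refine ⟨UnitsSh.unitOfSect y, ?_⟩
    have h2 := T.comap_ofU (UnitsSh.unitOfSect y)
    rw [UnitsSh.sectOfUnit_unitOfSect] at h2
    exact (T.pU_ofU _).symm.trans ((congrArg (pU (i := i) (U := ⊤)) (h2.symm.trans hy)).trans (T.pU_ofU u))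
  · rintro ⟨v, rfl⟩
    exact congrArg Multiplicative.ofAdd ((dl_eq_zero_iff T.shortExact _).2 ⟨_, T.comap_ofU v⟩)

theorem expH1_eq_zero_iff (x : CohTop.H A 1) : T.expH1 x = 0 ↔ ∃ u, dl T.shortExact (T.ofU u) = x := by
  constructor
  · intro hx
    obtain ⟨d, hd⟩ := Ext.covariant_sequence_exact₁ _ T.shortExact x hx (zero_add 1)
    obtain ⟨φ, rfl⟩ := (Ext.mk₀_bijective _ _).2 d
    refine ⟨pU (i := i) (U := ⊤) (ZarPicLib.secZ T.seq.X₃ φ), ?_⟩
    rw [T.ofU_pU]
    change (Ext.mk₀ ((ZarPicLib.secZ T.seq.X₃).symm (ZarPicLib.secZ T.seq.X₃ φ))).comp _ (zero_add 1) = x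
    rw [AddEquiv.symm_apply_apply]
    exact hd
  · rintro ⟨u, rfl⟩
    change Ext.comp (Ext.comp (Ext.mk₀ _) T.shortExact.extClass (zero_add 1)) (Ext.mk₀ T.seq.f) (add_zero 1) = 0
    rw [Ext.comp_assoc_of_third_deg_zero, T.shortExact.extClass_comp, Ext.comp_zero]

theorem g_eq_zero_iff (y : CohTop.H (UnitsSh.unitsAb X) 1) :
    Ext.comp y (Ext.mk₀ (UnitsSh.comap i)) (add_zero 1) = 0 ↔ ∃ x, T.expH1 x = y := by
  constructor
  · exact fun h => Ext.covariant_sequence_exact₂ _ T.shortExact _ h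
  · rintro ⟨x, rfl⟩
    change Ext.comp (Ext.comp x (Ext.mk₀ T.seq.f) (add_zero 1)) (Ext.mk₀ T.seq.g) (add_zero 1) = 0
    rw [Ext.comp_assoc_of_second_deg_zero, Ext.mk₀_comp_mk₀, T.seq.zero, Ext.mk₀_zero, Ext.comp_zero]

theorem del1_eq_zero_iff (y : CohTop.H T.seq.X₃ 1) :
    T.del1 y = 0 ↔ ∃ z : CohTop.H (UnitsSh.unitsAb X) 1, Ext.comp z (Ext.mk₀ (UnitsSh.comap i)) (add_zero 1) = y := by
  constructor
  · exact fun h => Ext.covariant_sequence_exact₃ _ T.shortExact y rfl h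
  · rintro ⟨z, rfl⟩
    change Ext.comp (Ext.comp z (Ext.mk₀ T.seq.g) (add_zero 1)) T.shortExact.extClass rfl = 0
    rw [Ext.comp_assoc_of_second_deg_zero, T.shortExact.comp_extClass, Ext.comp_zero]

/-- **the units sequence of a square-zero thickening** -/
theorem exists_exact [PicGrp.Law X] [PicGrp.Law Z] (hm : PicGrp.PullMul i) :
    ∃ (ε : Multiplicative (CohTop.H A 0) →* (Γ(X, ⊤))ˣ)
      (δ₀ : (Γ(Z, ⊤))ˣ →* Multiplicative (CohTop.H A 1))
      (α : Multiplicative (CohTop.H A 1) →* PicLoc.PicSet X)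
      (δ₁ : PicLoc.PicSet Z →* Multiplicative (CohTop.H A 2)),
      Function.Injective ε ∧
      (Units.map i.appTop.hom.toMonoidHom).ker = ε.range ∧
      δ₀.ker = (Units.map i.appTop.hom.toMonoidHom).range ∧
      α.ker = δ₀.range ∧
      (PicGrp.pullHom i hm).ker = α.range ∧
      δ₁.ker = (PicGrp.pullHom i hm).range := by
  obtain ⟨ΨX, ΨZ, hΨ⟩ := exists_picEquivs i T.homeo hm
  obtain ⟨α, δ₁, h4, h5, h6⟩ := exists_homs T.expH1 (fun u => dl T.shortExact (T.ofU u))
    ((Ext.mk₀ (UnitsSh.comap i)).postcomp _ (add_zero 1)) T.del1 ΨX ΨZ (PicGrp.pullHom i hm) hΨ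
    T.del0 (fun u => rfl) T.expH1_eq_zero_iff T.g_eq_zero_iff T.del1_eq_zero_iff
  exact ⟨T.eps, T.del0, α, δ₁, T.eps_injective, T.ker_res, T.ker_del0, h4, h5, h6⟩

end Thick

theorem isHomeomorph_subschemeι {I : X.IdealSheafData} (hI : I * I = ⊥) : IsHomeomorph I.subschemeι.base := by
  have hs : I.support = ⊤ := by
    have h := congrArg Scheme.IdealSheafData.support hI
    rwa [Scheme.IdealSheafData.support_mul, sup_idem, Scheme.IdealSheafData.support_bot] at h
  have hsurj : Function.Surjective I.subschemeι.base := Set.range_eq_univ.1 (by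
    rw [Scheme.IdealSheafData.range_subschemeι, hs]; rfl)
  exact isHomeomorph_iff_isEmbedding_surjective.2 ⟨I.subschemeι.isClosedEmbedding.isEmbedding, hsurj⟩

/-- The thickening of a square-zero ideal. -/
def thickOfIdeal (I : X.IdealSheafData) (hI : I * I = ⊥) : Thick I.subschemeι (Coh.toAb (ClSub.idealMod I)) where
  homeo := isHomeomorph_subschemeι hI
  j U := ((ClSub.idealModι I).app U).hom
  inj U := Groth.Agent.QC.app_injective_of_mono _ U
  nat h z := (Groth.Agent.QC.app_res (ClSub.idealModι I) h z).symm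
  ker U t := (Groth.Agent.QC.mem_range_idealModι I U t).symm
  sq ha hb := ThickPic.mul_eq_zero_of_app hI ha hb
  lift U r x hx := by
    obtain ⟨W, hW, hxW, hWU⟩ := exists_isAffineOpen_mem_and_subset (X := X) (x := x) (U := U) hx
    obtain ⟨s, hs⟩ := I.subschemeι_app_surjective ⟨W, hW⟩ (resO I.subscheme (I.subschemeι.preimage_mono hWU) r)
    exact ⟨W, hWU, s, hxW, hs⟩

end Groth.Agent.ExpSeq
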